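import Cfsg.Agent.OddOrderCharacters.OutsideCentral
import Cfsg.Agent.OddOrderCharacters.IndRes
import Cfsg.Agent.OddOrderCharacters.Clifford
import Cfsg.Agent.Characters.Values
import Cfsg.Agent.Characters.Central
import Cfsg.Agent.OddOrderCharacters.PFDefs

/-!
Clifford theory in the "Galois" case of Peterfalvi (9.9): `H₀ ≤ H ≤ T` normal in `K`, `T` acting
trivially and `K/T` acting semiregularly on the abelian section `H/H₀`; irreducible characters of `K`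
with `H₀`, but not `H`, in the kernel are induced from irreducible characters of `T`; their number when
`T/N` is abelian.
-/

set_option autoImplicit false

open scoped ComplexConjugate
open Cfsg

namespace Cfsg.Agent.OddOrderCharacters.PF9.GaloisClifford

open Cfsg.Agent.Characters Cfsg.Agent.OddOrderCharacters.IndRes
open Cfsg.Agent.OddOrderCharacters.NormalInduced

/-- The value of an irreducible character on `a * g`, when `a` is central modulo the kernel. -/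
theorem exists_scalar {T : Type*} [Group T] [Finite T] {ψ : T → ℂ} (hψ : IsIrrCharacter T ψ) (a : T)
    (ha : ∀ t : T, ψ (t * a * t⁻¹ * a⁻¹) = ψ 1) :
    ∃ c : ℂ, ∀ g : T, ψ (a * g) = c * ψ g := by
  obtain ⟨n, ρ, hρ, rfl⟩ := hψ
  have h1 : ∀ t : T, ρ (t * a * t⁻¹ * a⁻¹) = 1 := by
    intro t
    have := (Values.character_eq_finrank_iff ρ (t * a * t⁻¹ * a⁻¹)).mp (by
      rw [ha t, Representation.char_one])
    exact this
  obtain ⟨c, hc⟩ := Central.exists_smul_of_comm ρ hρ (ρ a) (fun t => by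
    have h2 : t * a = (t * a * t⁻¹ * a⁻¹) * (a * t) := by group
    have h3 : ρ (t * a) = ρ (a * t) := by rw [h2, map_mul, h1 t, one_mul]
    rw [← map_mul, ← map_mul, h3])
  refine ⟨c, fun g => ?_⟩
  show LinearMap.trace ℂ _ (ρ (a * g)) = c * LinearMap.trace ℂ _ (ρ g)
  rw [map_mul, hc, smul_mul_assoc, one_mul, map_smul, smul_eq_mul]

/-- A kernel element acts trivially: `θ (a * g) = θ g` when `θ a = θ 1`. -/
theorem mul_left_of_ker {T : Type*} [Group T] [Finite T] {ψ : T → ℂ} (hψ : IsCharacter T ψ) {a : T}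
    (ha : ψ a = ψ 1) (g : T) : ψ (a * g) = ψ g := by
  obtain ⟨n, ρ, rfl⟩ := hψ
  have h1 : ρ a = 1 := (Values.character_eq_finrank_iff ρ a).mp (by
      rw [ha, Representation.char_one])
  show LinearMap.trace ℂ _ (ρ (a * g)) = LinearMap.trace ℂ _ (ρ g)
  rw [map_mul, h1, one_mul]

/-- An irreducible character whose kernel contains all the commutators has degree one. -/
theorem degree_one_of_comm {T : Type*} [Group T] [Finite T] {ψ : T → ℂ} (hψ : IsIrrCharacter T ψ)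
    (h : ∀ s t : T, ψ (s * t * s⁻¹ * t⁻¹) = ψ 1) : ψ 1 = 1 := by
  obtain ⟨f, hf⟩ : ∃ f : T → ℂ, ∀ a g : T, ψ (a * g) = f a * ψ g := by
    choose f hf using fun a : T => exists_scalar hψ a (fun t => h t a)
    exact ⟨f, hf⟩
  have : Fintype T := Fintype.ofFinite T
  have h1 := Core.classInner_irr_self hψ
  have h2 : ∀ g : T, ψ g * conj (ψ g) = ψ 1 * ψ 1 := by
    intro g
    rw [← Core.isCharacter_apply_inv (Core.isIrr_isCharacter hψ)]
    have e1 : ψ g = f g * ψ 1 := by rw [← hf, mul_one]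
    have e2 : ψ 1 = f g * ψ g⁻¹ := by rw [← hf, mul_inv_cancel]
    calc ψ g * ψ g⁻¹ = (f g * ψ g⁻¹) * ψ 1 := by rw [e1]; ring
      _ = ψ 1 * ψ 1 := by rw [← e2]
  rw [Core.classInner_def, Finset.sum_congr rfl fun g _ => h2 g, Finset.sum_const, nsmul_eq_mul,
    Finset.card_univ, ← Nat.card_eq_fintype_card, inv_mul_cancel_left₀ Core.card_ne_zero_complex] at h1
  obtain ⟨n, hn, hn1⟩ := Core.isIrr_apply_one hψ
  rw [hn1] at h1 ⊢
  have h3 : n * n = 1 := by exact_mod_cast h1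
  have h4 : n = 1 := Nat.eq_one_of_mul_eq_one_left h3
  rw [h4, Nat.cast_one]

/-- If `α + β` has `a` in the kernel, so has `α`. -/
theorem ker_of_add {T : Type*} [Group T] [Finite T] {α β : T → ℂ} (hα : IsCharacter T α)
    (hβ : IsCharacter T β) {a : T} (ha : (α + β) a = (α + β) 1) : α a = α 1 := by
  obtain ⟨n, ρ, rfl⟩ := hα
  obtain ⟨m, σ, rfl⟩ := hβ
  have h1 := Values.norm_character_le ρ a
  have h2 := Values.norm_character_le σ a
  simp only [Pi.add_apply, Representation.char_one] at ha ⊢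
  have h3 : (ρ.character a).re ≤ Module.finrank ℂ (Fin n → ℂ) :=
    (Complex.re_le_norm _).trans h1
  have h4 : (σ.character a).re ≤ Module.finrank ℂ (Fin m → ℂ) :=
    (Complex.re_le_norm _).trans h2
  have h5 := congrArg Complex.re ha
  simp only [Complex.add_re, Complex.natCast_re] at h5
  have h6 : (ρ.character a).re = Module.finrank ℂ (Fin n → ℂ) := by linarith
  have h7 : ‖ρ.character a‖ = (ρ.character a).re :=
    le_antisymm (by rw [h6]; exact h1) (Complex.re_le_norm _)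
  have h8 : (ρ.character a).im = 0 := by
    have := Complex.sq_norm (ρ.character a)
    rw [h7, Complex.normSq_apply] at this
    nlinarith
  apply Complex.ext
  · rw [h6, Complex.natCast_re]
  · rw [h8, Complex.natCast_im]

/-- The kernel of a constituent contains the kernel. -/
theorem ker_of_constituent {T : Type*} [Group T] [Fintype T] {χ ψ : T → ℂ} (hχ : IsCharacter T χ)
    (hψ : IsIrrCharacter T ψ) (hc : classInner χ ψ ≠ 0) {a : T} (ha : χ a = χ 1) :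
    ψ a = ψ 1 := by
  have h1 := OddOrderCharacters.Clifford.isCharacter_sub_irr hχ hψ hc
  refine ker_of_add (Core.isIrr_isCharacter hψ) h1 ?_
  rw [add_sub_cancel]
  exact ha

/-- Fixed-point-free action of `x` on the section `H/H₀`: every element of `H` is a
commutator `[x, k]` modulo `H₀`. -/
theorem exists_commutator {K : Type*} [Group K] [Finite K] (H₀ H : Subgroup K) [hH₀ : H₀.Normal]
    [hH : H.Normal] (x : K)
    (hfree : ∀ h ∈ H, x * h * x⁻¹ * h⁻¹ ∈ H₀ → h ∈ H₀) {h : K} (hh : h ∈ H) :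
    ∃ k ∈ H, h * (x * k * x⁻¹ * k⁻¹)⁻¹ ∈ H₀ := by
  set q : K →* K ⧸ H₀ := QuotientGroup.mk' H₀ with hq
  have hq1 : ∀ a : K, q a = 1 ↔ a ∈ H₀ := fun a => by
    rw [hq, QuotientGroup.mk'_apply, QuotientGroup.eq_one_iff]
  have hmem : ∀ k ∈ H, x * k * x⁻¹ * k⁻¹ ∈ H := fun k hk =>
    H.mul_mem (hH.conj_mem k hk x) (H.inv_mem hk)
  have hmem' : ∀ k ∈ H.map q, q x * k * (q x)⁻¹ * k⁻¹ ∈ H.map q := by
    rintro _ ⟨k, hk, rfl⟩
    exact ⟨_, hmem k hk, by simp only [map_mul, map_inv]⟩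
  let f : H.map q → H.map q := fun k => ⟨q x * k * (q x)⁻¹ * (k : K ⧸ H₀)⁻¹, hmem' k k.2⟩
  have hinj : Function.Injective f := by
    intro k k' hkk
    have h1 : q x * k * (q x)⁻¹ * (k : K ⧸ H₀)⁻¹ = q x * k' * (q x)⁻¹ * (k' : K ⧸ H₀)⁻¹ :=
      congrArg Subtype.val hkk
    have h2 : q x * ((k' : K ⧸ H₀)⁻¹ * k) * (q x)⁻¹ = (k' : K ⧸ H₀)⁻¹ * k := by
      have e1 : q x * k * (q x)⁻¹ = q x * k' * (q x)⁻¹ * (k' : K ⧸ H₀)⁻¹ * k := by
        rw [← h1]; group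
      calc q x * ((k' : K ⧸ H₀)⁻¹ * k) * (q x)⁻¹
          = (q x * (k' : K ⧸ H₀)⁻¹ * (q x)⁻¹) * (q x * k * (q x)⁻¹) := by group
        _ = (k' : K ⧸ H₀)⁻¹ * k := by rw [e1]; group
    obtain ⟨l, hl, hl'⟩ := (H.map q).mul_mem ((H.map q).inv_mem k'.2) k.2
    have h3 : x * l * x⁻¹ * l⁻¹ ∈ H₀ := by
      rw [← hq1]
      simp only [map_mul, map_inv, hl']
      rw [h2, mul_inv_cancel]
    have h4 := (hq1 _).mpr (hfree l hl h3)
    rw [hl'] at h4
    exact Subtype.ext (inv_mul_eq_one.mp h4).symm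
  obtain ⟨⟨_, k, hk, rfl⟩, hk2⟩ := Finite.surjective_of_injective hinj ⟨q h, h, hh, rfl⟩
  refine ⟨k, hk, ?_⟩
  have h5 : q x * q k * (q x)⁻¹ * (q k)⁻¹ = q h := congrArg Subtype.val hk2
  rw [← hq1]
  simp only [map_mul, map_inv]
  rw [h5, mul_inv_cancel]

variable {K : Type*} [Group K] [Fintype K]

/-- Peterfalvi (9.9)(a), Clifford part. -/
theorem exists_induced (H₀ H T : Subgroup K) [hH₀ : H₀.Normal] [hH : H.Normal] [hT : T.Normal]
    (h0 : H₀ ≤ H) (hHT : H ≤ T)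
    (htriv : ∀ t ∈ T, ∀ h ∈ H, t * h * t⁻¹ * h⁻¹ ∈ H₀)
    (hfree : ∀ x, x ∉ T → ∀ h ∈ H, x * h * x⁻¹ * h⁻¹ ∈ H₀ → h ∈ H₀)
    {θ : K → ℂ} (hθ : IsIrrCharacter K θ) (hk : ∀ h ∈ H₀, θ h = θ 1) (hn : ∃ h ∈ H, θ h ≠ θ 1) :
    ∃ ψ : T → ℂ, IsIrrCharacter T ψ ∧ θ = indFun T ψ := by
  classical
  have _ : Fintype T := Fintype.ofFinite T
  have _ : Finite (IrrCharacter T) := Core.finite_irr
  have _ : Fintype (IrrCharacter T) := Fintype.ofFinite _
  obtain ⟨h, hh, hne⟩ := hn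
  have hres := isCharacter_res T (Core.isIrr_isCharacter hθ)
  obtain ⟨m, hm⟩ := Core.exists_nat_comb hres
  obtain ⟨ψ, hψm, hψh⟩ : ∃ ψ : IrrCharacter T, m ψ ≠ 0 ∧ ψ.1 ⟨h, hHT hh⟩ ≠ ψ.1 1 := by
    by_contra hcon
    push Not at hcon
    apply hne
    have e1 : θ h = res T θ ⟨h, hHT hh⟩ := rfl
    have e2 : θ 1 = res T θ 1 := rfl
    rw [e1, e2, hm, Finset.sum_apply, Finset.sum_apply]
    refine Finset.sum_congr rfl fun ψ _ => ?_
    by_cases h0 : m ψ = 0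
    · simp [h0]
    · rw [Pi.smul_apply, Pi.smul_apply, hcon ψ h0]
  have hc : classInner (res T θ) ψ.1 ≠ 0 := by
    rw [hm, Core.classInner_sum_nsmul_irr]
    exact_mod_cast hψm
  have hker : ∀ a : T, (a : K) ∈ H₀ → ψ.1 a = ψ.1 1 := fun a ha =>
    ker_of_constituent hres ψ.2 hc (hk _ ha)
  have hψc := Core.isIrr_isCharacter ψ.2
  -- the inertia group of `ψ` is `T`
  have hinert : ∀ x : K, conjFn T ψ.1 x = ψ.1 ↔ x ∈ T := by
    intro x
    refine ⟨fun hx => ?_, fun hx => conjFn_of_mem T (Core.isIrr_isClassFunction ψ.2) hx⟩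
    by_contra hxT
    apply hψh
    obtain ⟨k, hk1, hk2⟩ := exists_commutator H₀ H x
      (hfree x hxT) hh
    have hscal : ∀ a : T, (a : K) ∈ H → ∃ c : ℂ, ∀ g : T, ψ.1 (a * g) = c * ψ.1 g := by
      intro a ha
      exact exists_scalar ψ.2 a fun t => hker _ (htriv t t.2 a ha)
    have hxk : x * k * x⁻¹ ∈ H := hH.conj_mem k hk1 x
    obtain ⟨c, hc1⟩ := hscal ⟨k, hHT hk1⟩ hk1
    obtain ⟨d, hd1⟩ := hscal ⟨x * k * x⁻¹, hHT hxk⟩ hxk
    have hψ1 : ψ.1 1 ≠ 0 := Core.isIrr_apply_one_ne_zero ψ.2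
    have hcd : d = c := by
      have e1 : ψ.1 ⟨x * k * x⁻¹, hHT hxk⟩ = ψ.1 ⟨k, hHT hk1⟩ := congrFun hx ⟨k, hHT hk1⟩
      have e2 := hc1 1
      have e3 := hd1 1
      rw [mul_one] at e2 e3
      rw [e2, e3] at e1
      exact mul_right_cancel₀ hψ1 e1
    have hy : x * k * x⁻¹ * k⁻¹ ∈ H := H.mul_mem hxk (H.inv_mem hk1)
    have e4 : ψ.1 ⟨x * k * x⁻¹ * k⁻¹, hHT hy⟩ = ψ.1 1 := by
      have e5 := hd1 ⟨k⁻¹, T.inv_mem (hHT hk1)⟩
      have e6 := hc1 ⟨k⁻¹, T.inv_mem (hHT hk1)⟩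
      have e7 : (⟨k, hHT hk1⟩ : T) * ⟨k⁻¹, T.inv_mem (hHT hk1)⟩ = 1 :=
        Subtype.ext (mul_inv_cancel k)
      rw [e7] at e6
      rw [e6, ← hcd, ← e5]
      rfl
    have e8 : (⟨h, hHT hh⟩ : T) = ⟨h * (x * k * x⁻¹ * k⁻¹)⁻¹, hHT (h0 hk2)⟩ *
        ⟨x * k * x⁻¹ * k⁻¹, hHT hy⟩ := Subtype.ext (inv_mul_cancel_right h _).symm
    rw [e8, mul_left_of_ker hψc (hker _ hk2), e4]
  have hirr : IsIrrCharacter K (indFun T ψ.1) := by
    refine Core.isIrr_of_classInner_self (isCharacter_indFun T hψc) ?_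
    rw [classInner_indFun_self T ψ.2]
    have : Nat.card {g : K // conjFn T ψ.1 g = ψ.1} = Nat.card T :=
      Nat.card_congr (Equiv.subtypeEquivRight hinert)
    rw [this, inv_mul_cancel₀ Core.card_ne_zero_complex]
  refine ⟨ψ.1, ψ.2, ?_⟩
  by_contra hne'
  have h1 := Core.classInner_irr_ne hirr hθ (Ne.symm hne')
  rw [classInner_res_symm T hψc (Core.isIrr_isCharacter hθ)] at h1
  exact hc h1

/-- The kernel of a character contains `N ⊔ H` if and only if it contains `N` and `H`. -/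
theorem ker_sup_iff (N H : Subgroup K) [hN : N.Normal] {θ : K → ℂ} (hθ : IsCharacter K θ) :
    (∀ a ∈ N ⊔ H, θ a = θ 1) ↔ (∀ a ∈ N, θ a = θ 1) ∧ ∀ a ∈ H, θ a = θ 1 := by
  constructor
  · intro h
    exact ⟨fun a ha => h a (Subgroup.mem_sup_left ha), fun a ha => h a (Subgroup.mem_sup_right ha)⟩
  · rintro ⟨h1, h2⟩ a ha
    obtain ⟨y, hy, z, hz, rfl⟩ := Subgroup.mem_sup_of_normal_left.mp ha
    rw [mul_left_of_ker hθ (h1 y hy), h2 z hz]

/-- If all irreducible characters of `K` with `N`, but not `H`, in the kernel have degree `n`, then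
`n ^ 2` times their number is `|K : N| - |K : NH|`. -/
theorem card_mul_sq (N H : Subgroup K) [hN : N.Normal] [hH : H.Normal] (n : ℕ)
    (hdeg : ∀ θ : K → ℂ, IsIrrCharacter K θ → (∀ a ∈ N, θ a = θ 1) → (∃ h ∈ H, θ h ≠ θ 1) →
      θ 1 = n) :
    Nat.card {θ : IrrCharacter K // (∀ a ∈ N, θ.1 a = θ.1 1) ∧ ∃ h ∈ H, θ.1 h ≠ θ.1 1} * n ^ 2 +
      (N ⊔ H).index = N.index := by
  classical
  have _ : Finite (IrrCharacter K) := Core.finite_irr
  have _ : Fintype (IrrCharacter K) := Fintype.ofFinite _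
  have h1 := InducedSum.sum_above N (1 : K)
  have h2 := InducedSum.sum_above (N ⊔ H) (1 : K)
  rw [if_pos (one_mem _)] at h1 h2
  have h3 : ∀ χ : IrrCharacter K, (if ∀ a ∈ N, χ.1 a = χ.1 1 then χ.1 1 * χ.1 1 else 0) =
      (if (∀ a ∈ N, χ.1 a = χ.1 1) ∧ ∃ h ∈ H, χ.1 h ≠ χ.1 1 then (n : ℂ) ^ 2 else 0) +
      (if ∀ a ∈ N ⊔ H, χ.1 a = χ.1 1 then χ.1 1 * χ.1 1 else 0) := by
    intro χ
    have e := ker_sup_iff N H (Core.isIrr_isCharacter χ.2)
    by_cases hN1 : ∀ a ∈ N, χ.1 a = χ.1 1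
    · by_cases hH1 : ∃ h ∈ H, χ.1 h ≠ χ.1 1
      · rw [if_pos hN1, if_pos ⟨hN1, hH1⟩, if_neg, add_zero, hdeg χ.1 χ.2 hN1 hH1, sq]
        intro h
        obtain ⟨k, hk, hk'⟩ := hH1
        exact hk' ((e.mp h).2 k hk)
      · rw [if_pos hN1, if_neg (fun h => hH1 h.2), zero_add, if_pos]
        push Not at hH1
        exact e.mpr ⟨hN1, hH1⟩
    · rw [if_neg hN1, if_neg (fun h => hN1 h.1), if_neg (fun h => hN1 (e.mp h).1), add_zero]
  rw [Finset.sum_congr rfl fun χ _ => h3 χ, Finset.sum_add_distrib, h2] at h1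
  have h4 : ∑ χ : IrrCharacter K,
      (if (∀ a ∈ N, χ.1 a = χ.1 1) ∧ ∃ h ∈ H, χ.1 h ≠ χ.1 1 then (n : ℂ) ^ 2 else 0) =
      (Nat.card {θ : IrrCharacter K // (∀ a ∈ N, θ.1 a = θ.1 1) ∧ ∃ h ∈ H, θ.1 h ≠ θ.1 1} : ℂ) *
        (n : ℂ) ^ 2 := by
    rw [← Finset.sum_filter, Finset.sum_const, nsmul_eq_mul, Nat.card_eq_fintype_card,
      Fintype.card_subtype]
  rw [h4] at h1
  exact_mod_cast h1

end Cfsg.Agent.OddOrderCharacters.PF9.GaloisClifford
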