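import Mathlib
import Cfsg.Prelude.Def_Solvable
import Cfsg.Agent.S0022
import Cfsg.Agent.S0043
import Cfsg.Agent.S1545

/-!
# Peterfalvi (9.4)–(9.6): the chief factor `H / H₀` (group-theoretic internals)
-/

set_option autoImplicit false

namespace Cfsg.Agent.OddOrderCharacters.PF9.KernelAux

universe u

variable {L : Type u} [Group L]

/-- In a finite nilpotent group the normal closure of a proper subgroup is proper: here `H` is a normal
nilpotent subgroup of `L`, `D < H` and `L = H N_L(D)`; then the normal closure of `D` in `L` is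
still proper in `H`. -/
theorem normalClosure_lt [Finite L] {H D : Subgroup L} (hnil : Group.IsNilpotent H)
    (hDH : D < H) (hsup : ∀ g : L, ∃ h ∈ H, ∃ n ∈ Subgroup.normalizer (D : Set L), g = h * n) :
    Subgroup.normalClosure (D : Set L) < H := by
  have hne : D.subgroupOf H ≠ ⊤ := by
    intro h
    rw [Subgroup.subgroupOf_eq_top] at h
    exact not_le_of_gt hDH h
  obtain ⟨X, hX, hDX⟩ := (eq_top_or_exists_le_coatom (D.subgroupOf H)).resolve_left hne
  have hXn : X.Normal := by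
    have := (Group.isNilpotent_of_finite_tfae (G := H)).out 0 2
    exact this.mp hnil X hX
  have hDX' : D ≤ X.map H.subtype := by
    intro d hd
    exact ⟨⟨d, hDH.le hd⟩, hDX (Subgroup.mem_subgroupOf.mpr hd), rfl⟩
  have hconj : ∀ h ∈ H, ∀ x ∈ X.map H.subtype, h * x * h⁻¹ ∈ X.map H.subtype := by
    rintro h hh _ ⟨x, hx, rfl⟩
    exact ⟨⟨h, hh⟩ * x * ⟨h, hh⟩⁻¹, hXn.conj_mem x hx ⟨h, hh⟩, rfl⟩
  have hle : Subgroup.normalClosure (D : Set L) ≤ X.map H.subtype := by
    rw [Subgroup.normalClosure, Subgroup.closure_le]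
    intro y hy
    rw [Group.mem_conjugatesOfSet_iff] at hy
    obtain ⟨d, hd, hdy⟩ := hy
    rw [isConj_iff] at hdy
    obtain ⟨g, rfl⟩ := hdy
    obtain ⟨h, hh, n, hn, rfl⟩ := hsup g
    have h1 : n * d * n⁻¹ ∈ D := (Subgroup.mem_normalizer_iff.mp hn d).mp hd
    have h2 := hconj h hh _ (hDX' h1)
    have h3 : h * n * d * (h * n)⁻¹ = h * (n * d * n⁻¹) * h⁻¹ := by group
    rw [SetLike.mem_coe, h3]
    exact h2
  have hlt : X.map H.subtype < H := by
    refine lt_of_le_of_ne (Subgroup.map_subtype_le X) ?_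
    intro h
    apply hX.1
    have h2 : X.map H.subtype = (⊤ : Subgroup H).map H.subtype := by
      rw [h, ← MonoidHom.range_eq_map, Subgroup.range_subtype]
    exact Subgroup.map_injective H.subtype_injective h2
  exact lt_of_le_of_lt hle hlt

/-- Existence of the kernel `H₀`: a subgroup maximal among the normal subgroups of `L` with
`D ≤ H₀ < H`. -/
theorem exists_kernel [Finite L] {H D : Subgroup L} (hnil : Group.IsNilpotent H)
    (hDH : D < H) (hsup : ∀ g : L, ∃ h ∈ H, ∃ n ∈ Subgroup.normalizer (D : Set L), g = h * n) :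
    ∃ H₀ : Subgroup L, H₀.Normal ∧ D ≤ H₀ ∧ H₀ < H ∧
      ∀ N : Subgroup L, N.Normal → H₀ ≤ N → N ≤ H → N = H₀ ∨ N = H := by
  have hlt := normalClosure_lt hnil hDH hsup
  let S : Set (Subgroup L) := {N | N.Normal ∧ D ≤ N ∧ N < H}
  have hfin : S.Finite := Set.toFinite S
  have hne : S.Nonempty :=
    ⟨_, Subgroup.normalClosure_normal, Subgroup.le_normalClosure, hlt⟩
  obtain ⟨H₀, hH₀⟩ := hfin.exists_maximal hne
  refine ⟨H₀, hH₀.prop.1, hH₀.prop.2.1, hH₀.prop.2.2, ?_⟩
  intro N hN hle hNH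
  rcases hNH.lt_or_eq with h | h
  · left
    exact le_antisymm (hH₀.le_of_ge ⟨hN, hH₀.prop.2.1.trans hle, h⟩ hle) hle
  · right; exact h

/-- A chief factor of a finite solvable group is elementary abelian. -/
theorem chief_elementary [Finite L] [Group.IsSolvable L] {H H₀ : Subgroup L} [hH : H.Normal]
    [hH₀ : H₀.Normal] (hlt : H₀ < H)
    (hmax : ∀ N : Subgroup L, N.Normal → H₀ ≤ N → N ≤ H → N = H₀ ∨ N = H) :
    (∀ a ∈ H, ∀ b ∈ H, a * b * a⁻¹ * b⁻¹ ∈ H₀) ∧
      ∃ p : ℕ, p.Prime ∧ ∀ a ∈ H, a ^ p ∈ H₀ := by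
  set f := QuotientGroup.mk' H₀ with hf
  have hfs : Function.Surjective f := QuotientGroup.mk'_surjective H₀
  have hker : f.ker = H₀ := QuotientGroup.ker_mk' H₀
  have hmem : ∀ x : L, f x = 1 ↔ x ∈ H₀ := by
    intro x
    rw [← MonoidHom.mem_ker, hker]
  have hN : (H.map f).Normal := hH.map f hfs
  have hne : H.map f ≠ ⊥ := by
    intro h
    rw [Subgroup.map_eq_bot_iff, hker] at h
    exact not_le_of_gt hlt h
  have hmin : ∀ M : Subgroup (L ⧸ H₀), M.Normal → M ≤ H.map f → M = ⊥ ∨ M = H.map f := by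
    intro M hM hle
    have h1 : H₀ ≤ M.comap f := by
      intro x hx
      rw [Subgroup.mem_comap, (hmem x).mpr hx]
      exact one_mem M
    have h2 : M.comap f ≤ H := by
      have h3 := Subgroup.comap_mono (f := f) hle
      rwa [Subgroup.comap_map_eq, hker, sup_eq_left.mpr hlt.le] at h3
    rcases hmax (M.comap f) (hM.comap f) h1 h2 with h | h
    · left
      rw [← Subgroup.map_comap_eq_self_of_surjective hfs M, h, Subgroup.map_eq_bot_iff, hker]
    · right
      rw [← Subgroup.map_comap_eq_self_of_surjective hfs M, h]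
  obtain ⟨hcomm, p, hp, hpow⟩ := Cfsg.Agent.S0043.result (H.map f) hne hmin
  refine ⟨?_, p, hp, ?_⟩
  · intro a ha b hb
    have h1 := hcomm.is_comm.comm ⟨f a, Subgroup.mem_map_of_mem f ha⟩
      ⟨f b, Subgroup.mem_map_of_mem f hb⟩
    have h2 : f a * f b = f b * f a := congrArg Subtype.val h1
    rw [← hmem, map_mul, map_mul, map_mul, map_inv, map_inv, h2]
    group
  · intro a ha
    rw [← hmem, map_pow]
    exact hpow _ (Subgroup.mem_map_of_mem f ha)

/-- Fixed points of a coprime group on the factor `H / H₀`. -/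
theorem map_inf_centralizer [Finite L] {H H₀ A : Subgroup L} [hH : H.Normal]
    [hH₀ : H₀.Normal] (hle : H₀ ≤ H) (hsol : Group.IsSolvable H)
    (hcop : (Nat.card A).Coprime (Nat.card H)) :
    H.map (QuotientGroup.mk' H₀) ⊓
        Subgroup.centralizer ((A.map (QuotientGroup.mk' H₀) : Subgroup (L ⧸ H₀)) : Set (L ⧸ H₀)) =
      (H ⊓ Subgroup.centralizer (A : Set L)).map (QuotientGroup.mk' H₀) := by
  set f := QuotientGroup.mk' H₀ with hf
  have hker : f.ker = H₀ := QuotientGroup.ker_mk' H₀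
  have hmem : ∀ x : L, f x = 1 ↔ x ∈ H₀ := by
    intro x
    rw [← MonoidHom.mem_ker, hker]
  apply le_antisymm
  · rintro _ ⟨⟨k, hk, rfl⟩, hc⟩
    have hfix : ∀ a ∈ A, a * k * a⁻¹ * k⁻¹ ∈ H₀ := by
      intro a ha
      have h1 := Subgroup.mem_centralizer_iff.mp hc (f a) (Subgroup.mem_map_of_mem f ha)
      rw [← hmem, map_mul, map_mul, map_mul, map_inv, map_inv, h1]
      group
    obtain ⟨c, hc, hkc⟩ := Cfsg.Agent.S0022.result A H
      (fun a _ => by rw [Subgroup.normalizer_eq_top]; trivial)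
      hcop (Or.inr hsol) H₀ hle
      (fun a _ => by rw [Subgroup.normalizer_eq_top]; trivial)
      (fun a _ => by rw [Subgroup.normalizer_eq_top]; trivial) k hk hfix
    refine ⟨c, hc, ?_⟩
    rw [← hmem, map_mul, map_inv, inv_mul_eq_one] at hkc
    exact hkc.symm
  · rintro _ ⟨c, hc, rfl⟩
    refine ⟨Subgroup.mem_map_of_mem f hc.1, ?_⟩
    show f c ∈ Subgroup.centralizer _
    rw [Subgroup.mem_centralizer_iff]
    rintro _ ⟨a, ha, rfl⟩
    rw [← map_mul, ← map_mul, Subgroup.mem_centralizer_iff.mp hc.2 a ha]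

/-- (9.5), (9.6): the orders of `H / H₀` and of the image of `W₂`. -/
theorem card_factor [Finite L] [Group.IsSolvable L] {H U W₁ W₂ H₀ : Subgroup L} [hH : H.Normal]
    [hH₀ : H₀.Normal] (hlt : H₀ < H)
    (hmax : ∀ N : Subgroup L, N.Normal → H₀ ≤ N → N ≤ H → N = H₀ ∨ N = H)
    (hcop : (Nat.card H).Coprime (Nat.card ↥(U ⊔ W₁))) (hU1 : U ≠ ⊥) (hW1 : W₁ ≠ ⊥)
    (hUW : U ⊓ W₁ = ⊥) (hUn : ∀ e ∈ W₁, ∀ u ∈ U, e * u * e⁻¹ ∈ U)
    (hfpf : ∀ e ∈ W₁, e ≠ 1 → ∀ u ∈ U, e * u = u * e → u = 1)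
    (hCU : H ⊓ Subgroup.centralizer (U : Set L) ≤ H₀)
    (hW₂ : H ⊓ Subgroup.centralizer (W₁ : Set L) = W₂) (hW₂c : IsCyclic W₂) :
    ∃ p : ℕ, p.Prime ∧ (∀ a ∈ H, ∀ b ∈ H, a * b * a⁻¹ * b⁻¹ ∈ H₀) ∧ (∀ a ∈ H, a ^ p ∈ H₀) ∧
      H₀.relIndex H = p ^ Nat.card W₁ ∧ H₀.relIndex W₂ = p := by
  obtain ⟨hcomm, p, hp, hpow⟩ := chief_elementary hlt hmax
  refine ⟨p, hp, hcomm, hpow, ?_⟩
  set f := QuotientGroup.mk' H₀ with hf
  have hker : f.ker = H₀ := QuotientGroup.ker_mk' H₀
  have hmem : ∀ x : L, f x = 1 ↔ x ∈ H₀ := by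
    intro x
    rw [← MonoidHom.mem_ker, hker]
  have hdis : H ⊓ (U ⊔ W₁) = ⊥ := disjoint_iff.mp (Subgroup.disjoint_of_coprime_natCard hcop)
  -- `f` is injective on `U W₁`
  have hinj : ∀ x ∈ U ⊔ W₁, f x = 1 → x = 1 := by
    intro x hx h1
    have : x ∈ H ⊓ (U ⊔ W₁) := ⟨hlt.le ((hmem x).mp h1), hx⟩
    rwa [hdis, Subgroup.mem_bot] at this
  have hcardmap : ∀ X : Subgroup L, Nat.card (X.map f) = H₀.relIndex X := by
    intro X
    rw [← Subgroup.relIndex_ker, hker]
  have hUle : U ≤ U ⊔ W₁ := le_sup_left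
  have hWle : W₁ ≤ U ⊔ W₁ := le_sup_right
  have hcardinj : ∀ X : Subgroup L, X ≤ U ⊔ W₁ → Nat.card (X.map f) = Nat.card X := by
    intro X hX
    have hi : Function.Injective (fun x : X => (⟨f x, Subgroup.mem_map_of_mem f x.2⟩ : X.map f)) := by
      intro x y hxy
      have h1 : f x = f y := congrArg Subtype.val hxy
      have h2 : f ((x : L) * (y : L)⁻¹) = 1 := by
        rw [map_mul, map_inv, h1, mul_inv_cancel]
      have h3 := hinj _ (mul_mem (hX x.2) (inv_mem (hX y.2))) h2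
      exact Subtype.ext (mul_inv_eq_one.mp h3)
    have hs : Function.Surjective
        (fun x : X => (⟨f x, Subgroup.mem_map_of_mem f x.2⟩ : X.map f)) := by
      rintro ⟨_, x, hx, rfl⟩
      exact ⟨⟨x, hx⟩, rfl⟩
    exact (Nat.card_congr (Equiv.ofBijective _ ⟨hi, hs⟩)).symm
  have hsupmap : (U ⊔ W₁).map f = U.map f ⊔ W₁.map f := Subgroup.map_sup U W₁ f
  have hcopU : (Nat.card U).Coprime (Nat.card H) :=
    (Nat.Coprime.coprime_dvd_right (Subgroup.card_dvd_of_le hUle) hcop).symm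
  have hcopW : (Nat.card W₁).Coprime (Nat.card H) :=
    (Nat.Coprime.coprime_dvd_right (Subgroup.card_dvd_of_le hWle) hcop).symm
  have hcopUW : (Nat.card ↥(U ⊔ W₁)).Coprime (Nat.card H) := hcop.symm
  have hfixU : H.map f ⊓ Subgroup.centralizer ((U.map f : Subgroup (L ⧸ H₀)) : Set (L ⧸ H₀)) =
      ⊥ := by
    rw [map_inf_centralizer hlt.le inferInstance hcopU, Subgroup.map_eq_bot_iff]
    exact hCU.trans hker.ge
  have hfixW : H.map f ⊓ Subgroup.centralizer ((W₁.map f : Subgroup (L ⧸ H₀)) : Set (L ⧸ H₀)) =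
      W₂.map f := by
    rw [map_inf_centralizer hlt.le inferInstance hcopW, hW₂]
  have hfixUW : H.map f ⊓
      Subgroup.centralizer ((U.map f ⊔ W₁.map f : Subgroup (L ⧸ H₀)) : Set (L ⧸ H₀)) = ⊥ := by
    rw [eq_bot_iff, ← hfixU]
    exact inf_le_inf_left _ (Subgroup.centralizer_le (SetLike.coe_subset_coe.mpr le_sup_left))
  have hkey := Cfsg.Agent.S1545.result (U.map f) (W₁.map f) (H.map f)
    (by
      intro h
      apply hU1
      rw [← Subgroup.card_eq_one, ← hcardinj U hUle, h, Subgroup.card_bot])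
    (by
      intro h
      apply hW1
      rw [← Subgroup.card_eq_one, ← hcardinj W₁ hWle, h, Subgroup.card_bot])
    (by
      rw [Subgroup.eq_bot_iff_forall]
      rintro _ ⟨⟨u, hu, rfl⟩, w, hw, hwu⟩
      have h1 : f (u⁻¹ * w) = 1 := by rw [map_mul, map_inv, hwu, inv_mul_cancel]
      have h2 := hinj _ (mul_mem (inv_mem (hUle hu)) (hWle hw)) h1
      have h3 : u = w := inv_mul_eq_one.mp h2
      have h4 : u ∈ U ⊓ W₁ := ⟨hu, h3 ▸ hw⟩
      rw [hUW, Subgroup.mem_bot] at h4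
      rw [h4, map_one])
    (by
      rintro _ ⟨e, he, rfl⟩ _ ⟨u, hu, rfl⟩
      exact ⟨e * u * e⁻¹, hUn e he u hu, by rw [map_mul, map_mul, map_inv]⟩)
    (by
      rintro _ ⟨e, he, rfl⟩ hne _ ⟨u, hu, rfl⟩ heq
      have he1 : e ≠ 1 := by rintro rfl; exact hne (map_one f)
      have h1 : f (e * u * (u * e)⁻¹) = 1 := by
        rw [map_mul, map_inv, map_mul, map_mul, heq, mul_inv_cancel]
      have h2 := hinj _ (mul_mem (mul_mem (hWle he) (hUle hu))
        (inv_mem (mul_mem (hUle hu) (hWle he)))) h1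
      rw [hfpf e he he1 u hu (mul_inv_eq_one.mp h2), map_one])
    (by
      intro x _ h hh
      exact (hH.map f (QuotientGroup.mk'_surjective H₀)).conj_mem h hh x)
    (by
      rw [← hsupmap]
      apply disjoint_iff.mp
      apply Subgroup.disjoint_of_coprime_natCard
      refine Nat.Coprime.coprime_dvd_left (Subgroup.card_map_dvd _ _) ?_
      exact Nat.Coprime.coprime_dvd_right (Subgroup.card_map_dvd _ _) hcop)
    (Group.isSolvable_of_surjective (f := f.subgroupMap H) (f.subgroupMap_surjective H))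
    (by
      rw [← hsupmap]
      refine Nat.Coprime.coprime_dvd_left (Subgroup.card_map_dvd _ _) ?_
      exact Nat.Coprime.coprime_dvd_right (Subgroup.card_map_dvd _ _) hcop)
  rw [hfixUW, hfixU, hfixW, Subgroup.card_bot, one_pow, one_mul, mul_one, hcardmap H,
    hcardinj W₁ hWle, hcardmap W₂] at hkey
  -- the image of `W₂` is cyclic of exponent dividing `p`
  have hW₂H : W₂ ≤ H := hW₂ ▸ inf_le_left
  have hcyc : IsCyclic (W₂.map f) :=
    isCyclic_of_surjective (f.subgroupMap W₂) (f.subgroupMap_surjective W₂)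
  have hdvd : Nat.card (W₂.map f) ∣ p := by
    rw [← IsCyclic.exponent_eq_card]
    apply Monoid.exponent_dvd_of_forall_pow_eq_one
    rintro ⟨_, x, hx, rfl⟩
    apply Subtype.ext
    show (f x) ^ p = 1
    rw [← map_pow, hmem]
    exact hpow x (hW₂H hx)
  rw [hcardmap W₂] at hdvd
  rcases (Nat.dvd_prime hp).mp hdvd with h | h
  · exfalso
    rw [h, one_pow, Subgroup.relIndex_eq_one] at hkey
    exact not_le_of_gt hlt hkey
  · rw [h] at hkey
    exact ⟨hkey, h⟩

end Cfsg.Agent.OddOrderCharacters.PF9.KernelAux
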