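import Cfsg.Agent.OddOrderCharacters.IndRes
import Cfsg.Agent.OddOrderCharacters.InertiaAbelian
import Cfsg.Agent.OddOrderCharacters.SplitExtension
import Cfsg.Agent.OddOrderCharacters.Clifford
import Cfsg.Agent.OddOrderCharacters.PF4Type
import Cfsg.Agent.CharDeep.CliffordCorr
import Cfsg.Agent.Characters.Clifford
import Cfsg.Agent.Characters.Values
import Cfsg.Agent.Characters.DegreeBounds
import Cfsg.Agent.Characters.Linear
import Cfsg.Agent.S1489
import Cfsg.Agent.S1490

/-!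
# Clifford toolbox for Peterfalvi, Section 9

`N` normal in `K`, `θ` an irreducible character of `N` with inertia group `T`.

* `exists_ind` / `irr_ind` / `ind_inj`: the Clifford correspondence `Irr(T | θ) → Irr(K | θ)`.
* `exists_twist`, `irr_twist`, `twist_inj`: the same when `θ = λ` is linear and extends to `T`
  (Gallagher): `Irr(K | λ)` is the set of `Ind_T^K (λ̃ ψ)`, `ψ ∈ Irr (T / N)`.
* `exists_extension`: the extension exists when `N` has a complement in `K`.
* `sq_le_relIndex`: degrees of `Irr(T | λ)` are at most `√|T : N|`.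
* `prime_index`: induction of irreducible characters from a normal subgroup of prime index.
-/

set_option autoImplicit false

open Cfsg
open scoped ComplexConjugate commutatorElement

namespace Cfsg.Agent.OddOrderCharacters.PF9.CliffGen

open Cfsg.Agent.Characters.Core Cfsg.Agent.OddOrderCharacters.IndRes
  Cfsg.Agent.OddOrderCharacters.NormalInduced

universe u

variable {K : Type u} [Group K]

/-! ### Inertia groups -/

/-- The inertia group of a function on a normal subgroup. -/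
def inertia (N : Subgroup K) [hN : N.Normal] (θ : N → ℂ) : Subgroup K where
  carrier := {g | conjFn N θ g = θ}
  one_mem' := conjFn_one N θ
  mul_mem' := by
    intro a b ha hb
    show conjFn N θ (a * b) = θ
    rw [conjFn_mul, show conjFn N θ a = θ from ha, show conjFn N θ b = θ from hb]
  inv_mem' := by
    intro a ha
    show conjFn N θ a⁻¹ = θ
    have h : conjFn N θ a = θ := ha
    conv_lhs => rw [← h, ← conjFn_mul, mul_inv_cancel, conjFn_one]

theorem mem_inertia {N : Subgroup K} [hN : N.Normal] {θ : N → ℂ} {g : K} :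
    g ∈ inertia N θ ↔ conjFn N θ g = θ := Iff.rfl

theorem mem_inertia' {N : Subgroup K} [hN : N.Normal] {θ : N → ℂ} {g : K} :
    g ∈ inertia N θ ↔ ∀ h : N, θ ⟨g * h * g⁻¹, hN.conj_mem h h.2 g⟩ = θ h := by
  rw [mem_inertia, funext_iff]
  rfl

theorem le_inertia {N : Subgroup K} [hN : N.Normal] {θ : N → ℂ} (hθ : IsClassFunction N θ) :
    N ≤ inertia N θ := by
  intro n hn
  rw [mem_inertia]
  exact conjFn_of_mem N hθ hn

/-! ### Kernels of constituents -/

section kernel

theorem norm_le_re [Finite K] {χ : K → ℂ} (hχ : IsCharacter K χ) (y : K) :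
    ‖χ y‖ ≤ (χ 1).re := by
  obtain ⟨n, ρ, rfl⟩ := hχ
  rw [Representation.char_one]
  simpa using Characters.Values.norm_character_le ρ y

theorem eq_of_re_le [Finite K] {χ : K → ℂ} (hχ : IsCharacter K χ) {y : K}
    (h : (χ 1).re ≤ (χ y).re) : χ y = χ 1 := by
  have h1 := norm_le_re hχ y
  have h2 : (χ y).re = ‖χ y‖ := le_antisymm (Complex.re_le_norm _) (h1.trans h)
  have h3 : (χ y).re = (χ 1).re := le_antisymm (h2 ▸ h1) h
  obtain ⟨n, hn⟩ := isCharacter_apply_one hχ
  have h4 : (χ y).im = 0 := (Complex.nonneg_iff.1 (Complex.re_eq_norm.1 h2)).2.symm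
  apply Complex.ext h3
  rw [h4, hn, Complex.natCast_im]

/-- The kernel of a character is contained in the kernel of each constituent. -/
theorem constituent_ker [Fintype K] {χ ψ : K → ℂ} (hχ : IsCharacter K χ)
    (hψ : IsIrrCharacter K ψ) (h : classInner χ ψ ≠ 0) {y : K} (hy : χ y = χ 1) : ψ y = ψ 1 := by
  have h1 := Clifford.isCharacter_sub_irr hχ hψ h
  have h2 := norm_le_re h1 y
  rw [Pi.sub_apply, Pi.sub_apply, hy] at h2
  have h3 := (Complex.re_le_norm _).trans h2
  rw [Complex.sub_re, Complex.sub_re] at h3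
  exact eq_of_re_le (isIrr_isCharacter hψ) (by linarith)

theorem degree_le_of_constituent [Fintype K] {χ ψ : K → ℂ} (hχ : IsCharacter K χ)
    (hψ : IsIrrCharacter K ψ) (h : classInner χ ψ ≠ 0) {m n : ℕ} (hm : χ 1 = m) (hn : ψ 1 = n) :
    n ≤ m := by
  obtain ⟨k, hk⟩ := isCharacter_apply_one (Clifford.isCharacter_sub_irr hχ hψ h)
  rw [Pi.sub_apply, hm, hn, sub_eq_iff_eq_add] at hk
  have : m = k + n := by exact_mod_cast hk
  omega

/-- An irreducible character trivial on the commutator subgroup is linear. -/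
theorem exists_hom_of_ker [Finite K] {χ : K → ℂ} (hχ : IsIrrCharacter K χ)
    (h : ∀ y ∈ commutator K, χ y = χ 1) : ∃ f : K →* ℂˣ, χ = fun g => (f g : ℂ) := by
  classical
  apply Characters.Linear.exists_hom_of_isIrrCharacter hχ
  obtain ⟨n, ρ, hρ, rfl⟩ := hχ
  have hone : ∀ y ∈ commutator K, ρ y = 1 := by
    intro y hy
    have h1 := h y hy
    rw [Representation.char_one] at h1
    exact (Characters.Values.character_eq_finrank_iff ρ y).1 h1
  have hcomm : ∀ a b : K, ρ a * ρ b = ρ b * ρ a := by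
    intro a b
    have h1 := hone ⁅a, b⁆ (Subgroup.commutator_mem_commutator (Subgroup.mem_top a)
      (Subgroup.mem_top b))
    rw [commutatorElement_def] at h1
    have h2 : a * b = (a * b * a⁻¹ * b⁻¹) * (b * a) := by group
    rw [← map_mul, ← map_mul, h2, map_mul, h1, one_mul]
  have hpos : 0 < Module.finrank ℂ (Fin n → ℂ) := Characters.Central.finrank_pos_of_irr ρ hρ
  have : Nontrivial (Fin n → ℂ) := Module.nontrivial_of_finrank_pos hpos
  obtain ⟨v, -, hv0, hv⟩ := Characters.DegreeBounds.exists_common_eigenvector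
    (fun a : K => ρ a) hcomm (⊤ : Submodule ℂ (Fin n → ℂ))
    top_ne_bot (fun _ _ _ => Submodule.mem_top)
  have hU : Submodule.span ℂ {v} = ⊤ := by
    apply Characters.DegreeBounds.eq_top_of_stable ρ
    · intro g u hu
      obtain ⟨c, rfl⟩ := Submodule.mem_span_singleton.1 hu
      obtain ⟨d, hd⟩ := hv g
      rw [map_smul, hd]
      exact Submodule.smul_mem _ _ (Submodule.smul_mem _ _ (Submodule.mem_span_singleton_self v))
    · intro h0
      exact hv0 (Submodule.span_singleton_eq_bot.1 h0)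
  rw [Representation.char_one, ← finrank_top ℂ (Fin n → ℂ), ← hU, finrank_span_singleton hv0,
    Nat.cast_one]

/-- If `χ` is trivial on `[B, B]`, the constituents of its restriction to `B` are linear. -/
theorem exists_hom_of_constituent [Fintype K] (B : Subgroup K) [Fintype B] {χ : K → ℂ}
    (hχ : IsCharacter K χ) (hker : ∀ y ∈ ⁅B, B⁆, χ y = χ 1) {ψ : B → ℂ} (hψ : IsIrrCharacter B ψ)
    (h : classInner (res B χ) ψ ≠ 0) : ∃ f : B →* ℂˣ, ψ = fun b => (f b : ℂ) := by
  apply exists_hom_of_ker hψ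
  intro y hy
  apply constituent_ker (isCharacter_res B hχ) hψ h
  apply hker
  rw [← Subgroup.map_subtype_commutator]
  exact ⟨y, hy, rfl⟩

/-- `χ(1) ≤ |K : B|` if `[B, B]` is in the kernel of `χ`. -/
theorem degree_le_index [Fintype K] (B : Subgroup K) {χ : K → ℂ}
    (hχ : IsIrrCharacter K χ) (hker : ∀ y ∈ ⁅B, B⁆, χ y = χ 1) :
    ∃ k : ℕ, χ 1 = k ∧ k ≤ B.index := by
  classical
  have : Fintype B := Fintype.ofFinite _
  have h0 : res B χ ≠ 0 := by
    intro h
    exact isIrr_apply_one_ne_zero hχ (congrFun h 1)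
  obtain ⟨ψ, hψ, h1⟩ :=
    PF4Type.exists_irr_constituent (isCharacter_res B (isIrr_isCharacter hχ)) h0
  obtain ⟨f, rfl⟩ := exists_hom_of_constituent B (isIrr_isCharacter hχ) hker hψ h1
  obtain ⟨k, -, hk⟩ := isIrr_apply_one hχ
  refine ⟨k, hk, ?_⟩
  refine degree_le_of_constituent (isCharacter_indFun B (isIrr_isCharacter hψ)) hχ ?_ ?_ hk
  · rw [classInner_indFun_left B _ (isIrr_isClassFunction hχ), ← classInner_conj_symm]
    exact (map_ne_zero _).2 h1
  · rw [indFun_apply_one]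
    simp

/-- A character not trivial on `B` has a nonprincipal constituent in its restriction to `B`. -/
theorem exists_ne_one_constituent [Fintype K] (B : Subgroup K) [Fintype B] {χ : K → ℂ}
    (hχ : IsCharacter K χ) {y : K} (hy : y ∈ B) (h : χ y ≠ χ 1) :
    ∃ ψ : B → ℂ, IsIrrCharacter B ψ ∧ ψ ≠ 1 ∧ classInner (res B χ) ψ ≠ 0 := by
  classical
  by_contra hcon
  push Not at hcon
  have : Finite (IrrCharacter B) := finite_irr
  have : Fintype (IrrCharacter B) := Fintype.ofFinite _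
  have h1 := classFunction_eq_sum (isCharacter_isClassFunction (isCharacter_res B hχ))
  rw [Finset.sum_eq_single (⟨1, isIrr_one⟩ : IrrCharacter B)] at h1
  · apply h
    have h2 := congrFun h1 ⟨y, hy⟩
    have h3 := congrFun h1 1
    rw [Pi.smul_apply, res_apply] at h2 h3
    simpa [Pi.one_apply] using h2.trans h3.symm
  · intro ψ _ hψ
    rw [hcon ψ ψ.2 (fun h => hψ (Subtype.ext h)), zero_smul]
  · intro h
    exact absurd (Finset.mem_univ _) h

end kernel

/-! ### Restriction and induction between `N ≤ T` -/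

/-- Restriction of a function on `T` to a smaller subgroup `N ≤ T`. -/
def resTo {N T : Subgroup K} (h : N ≤ T) (ψ : T → ℂ) : N → ℂ := fun n => ψ ⟨n, h n.2⟩

theorem resTo_apply {N T : Subgroup K} (h : N ≤ T) (ψ : T → ℂ) (n : N) :
    resTo h ψ n = ψ ⟨n, h n.2⟩ := rfl

/-- A function on `N` as a function on `N.subgroupOf T`. -/
def down (N T : Subgroup K) (θ : N → ℂ) : N.subgroupOf T → ℂ :=
  fun x => θ ⟨(x : T), Subgroup.mem_subgroupOf.mp x.2⟩

theorem isCharacter_resTo {N T : Subgroup K} (h : N ≤ T) {ψ : T → ℂ} (hψ : IsCharacter T ψ) :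
    IsCharacter N (resTo h ψ) :=
  isCharacter_comp (Subgroup.inclusion h) hψ

theorem resTo_res {N T : Subgroup K} (h : N ≤ T) (χ : K → ℂ) : resTo h (res T χ) = res N χ := rfl

theorem classInner_down [Fintype K] {N T : Subgroup K} (h : N ≤ T) [Fintype N] [Fintype T]
    [Fintype (N.subgroupOf T)] (f g : N → ℂ) :
    classInner (down N T f) (down N T g) = classInner f g := by
  rw [classInner_def, classInner_def]
  rw [Nat.card_congr (Subgroup.subgroupOfEquivOfLe h).toEquiv]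
  congr 1
  exact Fintype.sum_equiv (Subgroup.subgroupOfEquivOfLe h).toEquiv _ _ fun x => rfl

theorem res_eq_down {N T : Subgroup K} (h : N ≤ T) (ψ : T → ℂ) :
    res (N.subgroupOf T) ψ = down N T (resTo h ψ) := rfl

/-- Frobenius reciprocity between `N ≤ T`. -/
theorem classInner_indFun_down [Fintype K] {N T : Subgroup K} (h : N ≤ T) [Fintype N] [Fintype T]
    (θ : N → ℂ) {ψ : T → ℂ} (hψ : IsClassFunction T ψ) :
    classInner (indFun (N.subgroupOf T) (down N T θ)) ψ = classInner θ (resTo h ψ) := by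
  classical
  have : Fintype (N.subgroupOf T) := Fintype.ofFinite _
  rw [classInner_indFun_left _ _ hψ, res_eq_down h, classInner_down h]

theorem indFun_down [Fintype K] {N T : Subgroup K} [Fintype T] (h : N ≤ T) (θ : N → ℂ) :
    indFun T (indFun (N.subgroupOf T) (down N T θ)) = indFun N θ :=
  indFun_trans N T h θ

/-- A character of `T` whose restriction to `N` contains `θ` has an irreducible constituent
with the same property. -/
theorem exists_constituent [Finite K] {N T : Subgroup K} [Fintype N] [Fintype T] (h : N ≤ T)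
    {θ : N → ℂ} {χ : T → ℂ} (hχ : IsCharacter T χ) (h0 : classInner (resTo h χ) θ ≠ 0) :
    ∃ ψ : T → ℂ, IsIrrCharacter T ψ ∧ classInner χ ψ ≠ 0 ∧ classInner (resTo h ψ) θ ≠ 0 := by
  classical
  have : Finite (IrrCharacter T) := finite_irr
  have : Fintype (IrrCharacter T) := Fintype.ofFinite _
  obtain ⟨m, hm⟩ := isCharacter_iff.1 hχ
  have h1 : resTo h χ = ∑ ψ : IrrCharacter T, (m ψ : ℂ) • resTo h (ψ : T → ℂ) := by
    funext n
    rw [resTo_apply, hm, Finset.sum_apply, Finset.sum_apply]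
    refine Finset.sum_congr rfl fun ψ _ => ?_
    rw [Pi.smul_apply, Pi.smul_apply, nsmul_eq_mul, smul_eq_mul, resTo_apply]
  rw [h1, classInner_sum_left] at h0
  obtain ⟨ψ, -, hψ⟩ := Finset.exists_ne_zero_of_sum_ne_zero h0
  rw [classInner_smul_left] at hψ
  refine ⟨ψ, ψ.2, ?_, right_ne_zero_of_mul hψ⟩
  rw [hm, classInner_sum_nsmul_irr]
  exact left_ne_zero_of_mul hψ

/-! ### The Clifford correspondence -/

section correspondence

variable [Fintype K] {N T : Subgroup K} [hN : N.Normal] [Fintype N] [Fintype T]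

/-- Clifford correspondence: irreducible characters of the inertia group over `θ` induce
irreducibly. -/
theorem irr_ind {θ : N → ℂ} (hθ : IsIrrCharacter N θ) (hT : ∀ g, g ∈ T ↔ conjFn N θ g = θ)
    (hNT : N ≤ T) {ψ : T → ℂ} (hψ : IsIrrCharacter T ψ) (h0 : classInner (resTo hNT ψ) θ ≠ 0) :
    IsIrrCharacter K (indFun T ψ) := by
  have hT' : ∀ g : K, g ∈ T ↔ ∀ h : N, θ ⟨g * h * g⁻¹, hN.conj_mem h h.2 g⟩ = θ h := by
    intro g
    rw [hT, funext_iff]
    rfl
  have h1 : classInner (indFun (N.subgroupOf T) (down N T θ)) ψ ≠ 0 := by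
    rw [classInner_indFun_down hNT θ (isIrr_isClassFunction hψ)]
    rw [← classInner_conj_symm]
    exact (map_ne_zero _).2 h0
  exact (S1489.result N T θ hθ hT' hNT ψ ψ hψ hψ h1 h1).1

/-- Injectivity of the Clifford correspondence. -/
theorem ind_inj {θ : N → ℂ} (hθ : IsIrrCharacter N θ) (hT : ∀ g, g ∈ T ↔ conjFn N θ g = θ)
    (hNT : N ≤ T) {ψ ψ' : T → ℂ} (hψ : IsIrrCharacter T ψ) (hψ' : IsIrrCharacter T ψ')
    (h0 : classInner (resTo hNT ψ) θ ≠ 0) (h0' : classInner (resTo hNT ψ') θ ≠ 0)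
    (h : indFun T ψ = indFun T ψ') : ψ = ψ' := by
  have hT' : ∀ g : K, g ∈ T ↔ ∀ h : N, θ ⟨g * h * g⁻¹, hN.conj_mem h h.2 g⟩ = θ h := by
    intro g
    rw [hT, funext_iff]
    rfl
  have h1 : classInner (indFun (N.subgroupOf T) (down N T θ)) ψ ≠ 0 := by
    rw [classInner_indFun_down hNT θ (isIrr_isClassFunction hψ)]
    rw [← classInner_conj_symm]
    exact (map_ne_zero _).2 h0
  have h1' : classInner (indFun (N.subgroupOf T) (down N T θ)) ψ' ≠ 0 := by
    rw [classInner_indFun_down hNT θ (isIrr_isClassFunction hψ')]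
    rw [← classInner_conj_symm]
    exact (map_ne_zero _).2 h0'
  exact (S1489.result N T θ hθ hT' hNT ψ ψ' hψ hψ' h1 h1').2 h

/-- Surjectivity of the Clifford correspondence. -/
theorem exists_ind {θ : N → ℂ} (hθ : IsIrrCharacter N θ) (hT : ∀ g, g ∈ T ↔ conjFn N θ g = θ)
    (hNT : N ≤ T) {χ : K → ℂ} (hχ : IsIrrCharacter K χ) (h0 : classInner (res N χ) θ ≠ 0) :
    ∃ ψ : T → ℂ, IsIrrCharacter T ψ ∧ classInner (resTo hNT ψ) θ ≠ 0 ∧ χ = indFun T ψ := by
  rw [← resTo_res hNT] at h0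
  obtain ⟨ψ, hψ, h1, h2⟩ :=
    exists_constituent hNT (isCharacter_res T (isIrr_isCharacter hχ)) h0
  refine ⟨ψ, hψ, h2, ?_⟩
  have h3 := irr_ind hθ hT hNT hψ h2
  by_contra hne
  have h4 := classInner_irr_ne hχ h3 hne
  rw [classInner_indFun_right T ψ (isIrr_isClassFunction hχ)] at h4
  exact h1 h4

/-- Over an invariant irreducible character `θ` of the normal subgroup `N`, an irreducible character
restricts to a multiple of `θ`. -/
theorem res_of_invariant {θ : N → ℂ} (hθ : IsIrrCharacter N θ) (hinv : ∀ g, conjFn N θ g = θ)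
    {χ : K → ℂ} (hχ : IsIrrCharacter K χ) (h0 : classInner (res N χ) θ ≠ 0) (n : N) :
    χ n * θ 1 = χ 1 * θ n := by
  classical
  have : Finite (IrrCharacter N) := finite_irr
  have : Fintype (IrrCharacter N) := Fintype.ofFinite _
  have h1 := classFunction_eq_sum (isCharacter_isClassFunction (isCharacter_res N (isIrr_isCharacter hχ)))
  have h2 : res N χ = classInner (res N χ) θ • θ := by
    conv_lhs => rw [h1]
    rw [Finset.sum_eq_single (⟨θ, hθ⟩ : IrrCharacter N)]
    · intro η _ hη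
      by_cases h3 : classInner (res N χ) (η : N → ℂ) = 0
      · rw [h3, zero_smul]
      · exfalso
        obtain ⟨g, hg⟩ := Characters.Clifford.exists_conj_of_constituents N hχ hθ η.2 h0 h3
        apply hη
        apply Subtype.ext
        rw [hg]
        exact hinv g
    · intro h
      exact absurd (Finset.mem_univ _) h
  have h3 : χ n = classInner (res N χ) θ * θ n := congrFun h2 n
  have h4 : χ 1 = classInner (res N χ) θ * θ 1 := congrFun h2 1
  rw [h3, h4]
  ring

end correspondence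

/-! ### Extensions and twists -/

section twist

variable [Fintype K] {N T : Subgroup K} [hN : N.Normal] [Fintype N] [Fintype T]

omit [Fintype T] in
/-- Over a `T`-invariant linear character `lam` of `N`, characters of `T` restrict to multiples of
`lam`. -/
theorem resTo_linear {lam : N →* ℂˣ} (hT : ∀ g ∈ T, conjFn N (fun n => (lam n : ℂ)) g =
      fun n => (lam n : ℂ)) (hNT : N ≤ T) {ψ : T → ℂ} (hψ : IsIrrCharacter T ψ)
    (h0 : classInner (resTo hNT ψ) (fun n => (lam n : ℂ)) ≠ 0) (n : N) :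
    ψ ⟨n, hNT n.2⟩ = ψ 1 * lam n := by
  have h1 := CharDeep.CliffordCorr.restrict_eq_mul_of_invariant N T hNT hψ
    (Characters.Linear.isIrrCharacter_hom lam) (fun g hg n => congrFun (hT g hg) n) h0
  have h2 := h1 1
  rw [map_one, Units.val_one, mul_one] at h2
  rw [h1 n, ← h2]
  rfl

/-- `ψ(1)² ≤ |T : N|` for `ψ` over a `T`-invariant linear character of `N`. -/
theorem sq_le_relIndex {lam : N →* ℂˣ} (hT : ∀ g ∈ T, conjFn N (fun n => (lam n : ℂ)) g =
      fun n => (lam n : ℂ)) (hNT : N ≤ T) {ψ : T → ℂ} (hψ : IsIrrCharacter T ψ)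
    (h0 : classInner (resTo hNT ψ) (fun n => (lam n : ℂ)) ≠ 0) :
    ∃ k : ℕ, ψ 1 = k ∧ k ^ 2 ≤ N.relIndex T := by
  classical
  obtain ⟨k, -, hk⟩ := isIrr_apply_one hψ
  refine ⟨k, hk, ?_⟩
  have h1 : resTo hNT ψ = (k : ℂ) • fun n => (lam n : ℂ) := by
    funext n
    rw [resTo_apply, resTo_linear hT hNT hψ h0, hk]
    rfl
  have h2 : classInner (indFun (N.subgroupOf T) (down N T (fun n => (lam n : ℂ)))) ψ = k := by
    rw [classInner_indFun_down hNT _ (isIrr_isClassFunction hψ), h1, classInner_smul_right,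
      classInner_irr_self (Characters.Linear.isIrrCharacter_hom lam), mul_one, Complex.conj_natCast]
  have : Finite (IrrCharacter T) := finite_irr
  have : Fintype (IrrCharacter T) := Fintype.ofFinite _
  have hch : IsCharacter (N.subgroupOf T) (down N T (fun n => (lam n : ℂ))) :=
    isCharacter_comp ((Subgroup.subgroupOfEquivOfLe hNT).toMonoidHom)
      (Characters.Linear.isCharacter_hom lam)
  have hI := isCharacter_indFun (N.subgroupOf T) hch
  obtain ⟨m, hm⟩ := isCharacter_iff.1 hI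
  have h3 : m ⟨ψ, hψ⟩ = k := by
    have := classInner_sum_nsmul_irr m ⟨ψ, hψ⟩
    rw [← hm, h2] at this
    exact_mod_cast this.symm
  choose d _ hd using fun η : IrrCharacter T => isIrr_apply_one η.2
  have h4 : N.relIndex T = ∑ η : IrrCharacter T, m η * d η := by
    have h5 := congrFun hm 1
    rw [indFun_apply_one, Finset.sum_apply] at h5
    have h6 : down N T (fun n => (lam n : ℂ)) 1 = 1 := by
      show ((lam ⟨((1 : ↥(N.subgroupOf T)) : T), _⟩ : ℂˣ) : ℂ) = 1
      have : (⟨((1 : ↥(N.subgroupOf T)) : T), Subgroup.mem_subgroupOf.mp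
        (1 : ↥(N.subgroupOf T)).2⟩ : N) = 1 := rfl
      rw [this, map_one, Units.val_one]
    rw [h6, mul_one] at h5
    have h7 : ((N.relIndex T : ℕ) : ℂ) = ((∑ η : IrrCharacter T, m η * d η : ℕ) : ℂ) := by
      rw [Nat.cast_sum]
      refine Eq.trans h5 (Finset.sum_congr rfl fun η _ => ?_)
      rw [Pi.smul_apply, nsmul_eq_mul, hd, Nat.cast_mul]
    exact_mod_cast h7
  rw [h4, sq]
  have h5 : k * k = m ⟨ψ, hψ⟩ * d ⟨ψ, hψ⟩ := by
    rw [h3]
    congr 1
    have := hd ⟨ψ, hψ⟩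
    exact_mod_cast hk.symm.trans this
  rw [h5]
  exact Finset.single_le_sum (f := fun η => m η * d η) (fun _ _ => Nat.zero_le _)
    (Finset.mem_univ _)

variable {lam : N →* ℂˣ} {F : T →* ℂˣ}

omit [Fintype K] hN [Fintype N] [Fintype T] in
theorem resTo_twist (hNT : N ≤ T) (hF : ∀ n : N, F ⟨n, hNT n.2⟩ = lam n) {ψ : T → ℂ}
    (hker : ∀ n : N, ψ ⟨n, hNT n.2⟩ = ψ 1) :
    resTo hNT (fun t => (F t : ℂ) * ψ t) = ψ 1 • fun n => (lam n : ℂ) := by
  funext n
  rw [resTo_apply, hF, hker, mul_comm]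
  rfl

omit [Fintype K] hN [Fintype T] in
theorem twist_over (hNT : N ≤ T) (hF : ∀ n : N, F ⟨n, hNT n.2⟩ = lam n) {ψ : T → ℂ}
    (hψ : IsIrrCharacter T ψ) (hker : ∀ n : N, ψ ⟨n, hNT n.2⟩ = ψ 1) :
    classInner (resTo hNT (fun t => (F t : ℂ) * ψ t)) (fun n => (lam n : ℂ)) ≠ 0 := by
  rw [resTo_twist hNT hF hker, classInner_smul_left,
    classInner_irr_self (Characters.Linear.isIrrCharacter_hom lam), mul_one]
  exact isIrr_apply_one_ne_zero hψ

/-- `Ind_T^K (F ψ)` is irreducible, for `F` an extension of `lam` to its inertia group `T` and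
`ψ ∈ Irr (T / N)`. -/
theorem irr_twist (hT : ∀ g, g ∈ T ↔ conjFn N (fun n => (lam n : ℂ)) g = fun n => (lam n : ℂ))
    (hNT : N ≤ T) (hF : ∀ n : N, F ⟨n, hNT n.2⟩ = lam n) {ψ : T → ℂ}
    (hψ : IsIrrCharacter T ψ) (hker : ∀ n : N, ψ ⟨n, hNT n.2⟩ = ψ 1) :
    IsIrrCharacter K (indFun T (fun t => (F t : ℂ) * ψ t)) :=
  irr_ind (Characters.Linear.isIrrCharacter_hom lam) hT hNT (InertiaAbelian.isIrr_mul_hom F hψ)
    (twist_over hNT hF hψ hker)

theorem twist_inj (hT : ∀ g, g ∈ T ↔ conjFn N (fun n => (lam n : ℂ)) g = fun n => (lam n : ℂ))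
    (hNT : N ≤ T) (hF : ∀ n : N, F ⟨n, hNT n.2⟩ = lam n) {ψ ψ' : T → ℂ}
    (hψ : IsIrrCharacter T ψ) (hker : ∀ n : N, ψ ⟨n, hNT n.2⟩ = ψ 1)
    (hψ' : IsIrrCharacter T ψ') (hker' : ∀ n : N, ψ' ⟨n, hNT n.2⟩ = ψ' 1)
    (h : indFun T (fun t => (F t : ℂ) * ψ t) = indFun T (fun t => (F t : ℂ) * ψ' t)) : ψ = ψ' := by
  have h1 := ind_inj (Characters.Linear.isIrrCharacter_hom lam) hT hNT
    (InertiaAbelian.isIrr_mul_hom F hψ) (InertiaAbelian.isIrr_mul_hom F hψ')
    (twist_over hNT hF hψ hker) (twist_over hNT hF hψ' hker') h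
  funext t
  exact mul_left_cancel₀ (Units.ne_zero (F t)) (congrFun h1 t)

/-- Gallagher: `Irr(K | lam)` consists of the `Ind_T^K (F ψ)`, `ψ ∈ Irr (T / N)`. -/
theorem exists_twist (hT : ∀ g, g ∈ T ↔ conjFn N (fun n => (lam n : ℂ)) g = fun n => (lam n : ℂ))
    (hNT : N ≤ T) (hF : ∀ n : N, F ⟨n, hNT n.2⟩ = lam n) {χ : K → ℂ} (hχ : IsIrrCharacter K χ)
    (h0 : classInner (res N χ) (fun n => (lam n : ℂ)) ≠ 0) :
    ∃ ψ : T → ℂ, IsIrrCharacter T ψ ∧ (∀ n : N, ψ ⟨n, hNT n.2⟩ = ψ 1) ∧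
      χ = indFun T (fun t => (F t : ℂ) * ψ t) := by
  obtain ⟨ψ', hψ', h1, h2⟩ := exists_ind (Characters.Linear.isIrrCharacter_hom lam) hT hNT hχ h0
  refine ⟨fun t => ((F⁻¹) t : ℂ) * ψ' t, InertiaAbelian.isIrr_mul_hom F⁻¹ hψ', ?_, ?_⟩
  · intro n
    have h3 := resTo_linear (fun g hg => (hT g).1 hg) hNT hψ' h1 n
    have h4 : (((F⁻¹) ⟨n, hNT n.2⟩ : ℂˣ) : ℂ) * (lam n : ℂ) = 1 := by
      rw [MonoidHom.inv_apply, hF, ← Units.val_mul, inv_mul_cancel, Units.val_one]
    show (((F⁻¹) ⟨n, hNT n.2⟩ : ℂˣ) : ℂ) * ψ' ⟨n, hNT n.2⟩ = (((F⁻¹) 1 : ℂˣ) : ℂ) * ψ' 1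
    rw [h3, map_one, Units.val_one, one_mul]
    calc (((F⁻¹) ⟨n, hNT n.2⟩ : ℂˣ) : ℂ) * (ψ' 1 * (lam n : ℂ))
        = ψ' 1 * ((((F⁻¹) ⟨n, hNT n.2⟩ : ℂˣ) : ℂ) * (lam n : ℂ)) := by ring
      _ = ψ' 1 := by rw [h4, mul_one]
  · rw [h2]
    congr 1
    funext t
    have h4 : (F t : ℂ) * (((F⁻¹) t : ℂˣ) : ℂ) = 1 := by
      rw [MonoidHom.inv_apply, ← Units.val_mul, mul_inv_cancel, Units.val_one]
    calc ψ' t = ((F t : ℂ) * (((F⁻¹) t : ℂˣ) : ℂ)) * ψ' t := by rw [h4, one_mul]
      _ = (F t : ℂ) * ((((F⁻¹) t : ℂˣ) : ℂ) * ψ' t) := by ring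

end twist

/-- If `N` has a complement `U` in `K`, a linear character `lam` of `N` and a linear character `nu` of
`T ⊓ U`, `T` the inertia group of `lam`, have a common extension to `T`. -/
theorem exists_extension {N T U : Subgroup K} [hN : N.Normal] (hNU : N ⊓ U = ⊥) (hNU' : N ⊔ U = ⊤)
    (hNT : N ≤ T) {lam : N →* ℂˣ}
    (hT : ∀ g ∈ T, conjFn N (fun n => (lam n : ℂ)) g = fun n => (lam n : ℂ))
    (nu : ↥(T ⊓ U) →* ℂˣ) :
    ∃ F : T →* ℂˣ, (∀ n : N, F ⟨n, hNT n.2⟩ = lam n) ∧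
      ∀ x : ↥(T ⊓ U), F ⟨x, x.2.1⟩ = nu x := by
  have hN' : (N.subgroupOf T).Normal := hN.subgroupOf T
  let f₁ : ↥(N.subgroupOf T) →* ℂˣ := lam.comp (Subgroup.subgroupOfEquivOfLe hNT).toMonoidHom
  let e : ↥((T ⊓ U).subgroupOf T) →* ↥(T ⊓ U) :=
    (Subgroup.subgroupOfEquivOfLe (inf_le_left : T ⊓ U ≤ T)).toMonoidHom
  obtain ⟨F, h1, h2⟩ := SplitExtension.exists_hom_of_complement (N.subgroupOf T)
    ((T ⊓ U).subgroupOf T) (by
      rw [eq_bot_iff]
      intro x hx
      have h1 : (x : K) ∈ N ⊓ U := ⟨hx.1, (Subgroup.mem_subgroupOf.mp hx.2).2⟩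
      rw [hNU, Subgroup.mem_bot] at h1
      exact Subgroup.mem_bot.2 (Subtype.ext h1)) (by
      rw [eq_top_iff]
      intro x _
      have h1 : (x : K) ∈ N ⊔ U := hNU' ▸ Subgroup.mem_top _
      obtain ⟨a, ha, b, hb, hab⟩ := Subgroup.mem_sup_of_normal_left.1 h1
      have hbT : b ∈ T := by
        have : b = a⁻¹ * x := by rw [← hab]; group
        rw [this]
        exact T.mul_mem (T.inv_mem (hNT ha)) x.2
      have h2 : x = ⟨a, hNT ha⟩ * ⟨b, hbT⟩ := Subtype.ext hab.symm
      rw [h2]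
      exact Subgroup.mul_mem_sup ha ⟨hbT, hb⟩) f₁ (nu.comp e) (by
      intro w n
      rw [mul_comm ((nu.comp e) w) (f₁ n), mul_inv_cancel_right]
      have h3 := congrFun (hT w w.1.2) ⟨(n : T), Subgroup.mem_subgroupOf.mp n.2⟩
      exact Units.ext h3)
  refine ⟨F, fun n => ?_, fun x => ?_⟩
  · exact h1 ⟨⟨n, hNT n.2⟩, Subgroup.mem_subgroupOf.mpr n.2⟩
  · exact h2 ⟨⟨x, x.2.1⟩, Subgroup.mem_subgroupOf.mpr x.2⟩

end Cfsg.Agent.OddOrderCharacters.PF9.CliffGen
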