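import Cfsg.Agent.S0150
import Mathlib

/-!
# Mackey's criterion for linear characters

If the functions induced from linear characters `ξ` of `A` and `ξ'` of `B` are not orthogonal, then
some conjugate of `ξ'` agrees with `ξ` on the intersection of `A` with that conjugate of `B`.
-/

set_option autoImplicit false
open Cfsg
open scoped ComplexConjugate

namespace Cfsg.Agent.OddOrderCharacters.PF9.Mackey

universe u

theorem mul_conj_lin {B : Type*} [Group B] [Finite B] (ξ : B →* ℂˣ) (b : B) :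
    (ξ b : ℂ) * conj (ξ b : ℂ) = 1 := by
  have h1 : (ξ b : ℂ) ^ Nat.card B = 1 := by
    have := congrArg (fun x : ℂˣ => (x : ℂ)) (show ξ b ^ Nat.card B = 1 by
      rw [← map_pow, pow_card_eq_one', map_one])
    simpa using this
  have h2 : ‖(ξ b : ℂ)‖ = 1 := Complex.norm_eq_one_of_pow_eq_one h1 Nat.card_pos.ne'
  rw [Complex.mul_conj, Complex.normSq_eq_norm_sq, h2]
  simp

theorem extendByZero_mul {L : Type u} [Group L] (B : Subgroup L) (ξ : ↥B →* ℂˣ) (b : ↥B) (y : L) :
    extendByZero B (fun x => (ξ x : ℂ)) (b * y) =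
      (ξ b : ℂ) * extendByZero B (fun x => (ξ x : ℂ)) y := by
  by_cases hy : y ∈ B
  · have h1 := S0150.extendByZero_coe B (fun x => (ξ x : ℂ)) ⟨y, hy⟩
    have h2 := S0150.extendByZero_coe B (fun x => (ξ x : ℂ)) (b * ⟨y, hy⟩)
    simp only [Subgroup.coe_mul] at h1 h2
    rw [h1, h2, map_mul, Units.val_mul]
  · have hy' : (b : L) * y ∉ B := fun h => hy ((Subgroup.mul_mem_cancel_left B b.2).mp h)
    rw [S0150.extendByZero_of_notMem _ _ hy, S0150.extendByZero_of_notMem _ _ hy', mul_zero]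

variable {L : Type u} [Group L] [Fintype L]

/-- **Mackey**, for linear characters. -/
theorem exists_conj_of_inner_ne (A B : Subgroup L) (ξ : ↥A →* ℂˣ) (ξ' : ↥B →* ℂˣ)
    (h : classInner (indFun A (fun x => (ξ x : ℂ))) (indFun B (fun x => (ξ' x : ℂ))) ≠ 0) :
    ∃ g : L, ∀ (a : ↥A) (b : ↥B), (b : L) = g * a * g⁻¹ → ξ a = ξ' b := by
  classical
  by_contra hcon
  push Not at hcon
  apply h
  rw [S0150.classInner_indFun A _ _ (fun g x => S0150.indFun_isClassFunction B _ g x)]
  show (Nat.card A : ℂ)⁻¹ * ∑ a : A, (ξ a : ℂ) * conj (indFun B (fun x => (ξ' x : ℂ)) a) = 0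
  have key : ∀ g : L, ∑ a : A, (ξ a : ℂ) *
      conj (extendByZero B (fun x => (ξ' x : ℂ)) (g⁻¹ * a * g)) = 0 := by
    intro g
    obtain ⟨a₀, b₀, hb₀, hne⟩ := hcon g⁻¹
    rw [inv_inv] at hb₀
    set S := ∑ a : A, (ξ a : ℂ) * conj (extendByZero B (fun x => (ξ' x : ℂ)) (g⁻¹ * a * g))
      with hS
    have h1 : S = (ξ a₀ : ℂ) * conj (ξ' b₀ : ℂ) * S := by
      calc S = ∑ a : A, (ξ (a₀ * a) : ℂ) *
            conj (extendByZero B (fun x => (ξ' x : ℂ)) (g⁻¹ * (a₀ * a : A) * g)) :=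
            (Fintype.sum_equiv (Equiv.mulLeft a₀) _ _ (fun a => rfl)).symm
        _ = ∑ a : A, (ξ a₀ : ℂ) * conj (ξ' b₀ : ℂ) * ((ξ a : ℂ) *
            conj (extendByZero B (fun x => (ξ' x : ℂ)) (g⁻¹ * a * g))) := by
            refine Finset.sum_congr rfl fun a _ => ?_
            have h2 : g⁻¹ * ((a₀ * a : A) : L) * g = (b₀ : L) * (g⁻¹ * a * g) := by
              rw [hb₀, Subgroup.coe_mul]; group
            rw [h2, extendByZero_mul, map_mul, map_mul, Units.val_mul]
            ring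
        _ = _ := by rw [← Finset.mul_sum]
    by_contra hS0
    apply hne
    have h3 : (ξ a₀ : ℂ) * conj (ξ' b₀ : ℂ) = 1 := by
      have : ((ξ a₀ : ℂ) * conj (ξ' b₀ : ℂ) - 1) * S = 0 := by
        rw [sub_mul, one_mul, ← h1, sub_self]
      rcases mul_eq_zero.mp this with h4 | h4
      · exact sub_eq_zero.mp h4
      · exact absurd h4 hS0
    have h5 := mul_conj_lin ξ' b₀
    apply Units.ext
    have h6 : conj (ξ' b₀ : ℂ) ≠ 0 := by
      intro h0; rw [h0, mul_zero] at h5; exact zero_ne_one h5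
    exact mul_right_cancel₀ h6 (h3.trans h5.symm)
  have h7 : ∑ a : A, (ξ a : ℂ) * conj (indFun B (fun x => (ξ' x : ℂ)) a) = 0 := by
    calc ∑ a : A, (ξ a : ℂ) * conj (indFun B (fun x => (ξ' x : ℂ)) a)
        = ∑ a : A, ∑ g : L, (conj (Nat.card B : ℂ)⁻¹) * ((ξ a : ℂ) *
            conj (extendByZero B (fun x => (ξ' x : ℂ)) (g⁻¹ * a * g))) := by
          refine Finset.sum_congr rfl fun a _ => ?_
          rw [S0150.indFun_apply, map_mul, map_sum, Finset.mul_sum, Finset.mul_sum]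
          refine Finset.sum_congr rfl fun g _ => ?_
          ring
      _ = ∑ g : L, (conj (Nat.card B : ℂ)⁻¹) * ∑ a : A, ((ξ a : ℂ) *
            conj (extendByZero B (fun x => (ξ' x : ℂ)) (g⁻¹ * a * g))) := by
          rw [Finset.sum_comm]
          refine Finset.sum_congr rfl fun g _ => ?_
          rw [Finset.mul_sum]
      _ = 0 := by
          refine Finset.sum_eq_zero fun g _ => ?_
          rw [key g, mul_zero]
  rw [h7, mul_zero]

theorem indFun_lin_apply_one (A : Subgroup L) (ξ : ↥A →* ℂˣ) :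
    indFun A (fun x => (ξ x : ℂ)) 1 = (A.index : ℂ) := by
  rw [S0150.indFun_apply]
  have h : ∀ x : L, extendByZero A (fun y => (ξ y : ℂ)) (x⁻¹ * 1 * x) = 1 := by
    intro x
    have h1 := S0150.extendByZero_coe A (fun y => (ξ y : ℂ)) 1
    simp only [Subgroup.coe_one, map_one, Units.val_one] at h1
    have h2 : x⁻¹ * 1 * x = (1 : L) := by group
    rw [h2, h1]
  rw [Finset.sum_congr rfl (fun x _ => h x), Finset.sum_const, Finset.card_univ,
    ← Nat.card_eq_fintype_card, nsmul_eq_mul, mul_one, ← A.index_mul_card, Nat.cast_mul, mul_comm,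
    mul_assoc, mul_inv_cancel₀, mul_one]
  exact_mod_cast Nat.card_pos.ne'

theorem classInner_indFun_self_ne (A : Subgroup L) (ξ : ↥A →* ℂˣ) :
    classInner (indFun A (fun x => (ξ x : ℂ))) (indFun A (fun x => (ξ x : ℂ))) ≠ 0 := by
  intro h
  have h1 : ∑ g : L, indFun A (fun x => (ξ x : ℂ)) g * conj (indFun A (fun x => (ξ x : ℂ)) g) = 0 := by
    rcases mul_eq_zero.mp (show (Nat.card L : ℂ)⁻¹ * ∑ g : L, indFun A (fun x => (ξ x : ℂ)) g *
      conj (indFun A (fun x => (ξ x : ℂ)) g) = 0 from h) with h2 | h2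
    · exact absurd h2 (inv_ne_zero (by exact_mod_cast Nat.card_pos.ne'))
    · exact h2
  have h2 : ∑ g : L, ‖indFun A (fun x => (ξ x : ℂ)) g‖ ^ 2 = 0 := by
    have : ((∑ g : L, ‖indFun A (fun x => (ξ x : ℂ)) g‖ ^ 2 : ℝ) : ℂ) = 0 := by
      rw [← h1]
      push_cast
      refine Finset.sum_congr rfl fun g _ => ?_
      rw [Complex.mul_conj, Complex.normSq_eq_norm_sq]
      push_cast
      rfl
    exact_mod_cast this
  have h3 := (Finset.sum_eq_zero_iff_of_nonneg (fun g _ => by positivity)).mp h2 1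
    (Finset.mem_univ _)
  rw [indFun_lin_apply_one] at h3
  have h4 : (A.index : ℂ) ≠ 0 := by exact_mod_cast Subgroup.index_ne_zero_of_finite
  simp at h3
  exact Subgroup.index_ne_zero_of_finite h3

/-- Equal induced functions: the linear characters are conjugate on the intersection. -/
theorem exists_conj_of_indFun_eq (A B : Subgroup L) (ξ : ↥A →* ℂˣ) (ξ' : ↥B →* ℂˣ)
    (h : indFun A (fun x => (ξ x : ℂ)) = indFun B (fun x => (ξ' x : ℂ))) :
    ∃ g : L, ∀ (a : ↥A) (b : ↥B), (b : L) = g * a * g⁻¹ → ξ a = ξ' b := by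
  apply exists_conj_of_inner_ne
  rw [← h]
  exact classInner_indFun_self_ne A ξ

end Cfsg.Agent.OddOrderCharacters.PF9.Mackey
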