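import Cfsg.Agent.OddOrderCharacters.PF9.Mackey
import Cfsg.Agent.OddOrderCharacters.IndRes
import Cfsg.Agent.CharDeep.LinearChar
import Cfsg.Agent.Characters.Core
import Mathlib

/-!
# Mackey's irreducibility criterion for linear characters
-/

set_option autoImplicit false
open Cfsg
open scoped ComplexConjugate

namespace Cfsg.Agent.OddOrderCharacters.PF9.MackeyIrr

open Mackey

universe u

variable {L : Type u} [Group L] [Fintype L]

/-- The function induced from a linear character is a character. -/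
theorem isCharacter_ind (A : Subgroup L) (ξ : ↥A →* ℂˣ) :
    IsCharacter L (indFun A (fun x => (ξ x : ℂ))) :=
  IndRes.isCharacter_indFun A (CharDeep.LinearChar.isCharacter_of_hom ξ)

/-- **Mackey's irreducibility criterion** for linear characters. -/
theorem isIrr_ind (A : Subgroup L) (ξ : ↥A →* ℂˣ)
    (h : ∀ g : L, (∀ (a b : ↥A), (b : L) = g * a * g⁻¹ → ξ a = ξ b) → g ∈ A) :
    IsIrrCharacter L (indFun A (fun x => (ξ x : ℂ))) := by
  classical
  apply Characters.Core.isIrr_of_classInner_self (isCharacter_ind A ξ)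
  rw [S0150.classInner_indFun A _ _ (fun g x => S0150.indFun_isClassFunction A _ g x)]
  show (Nat.card A : ℂ)⁻¹ * ∑ a : A, (ξ a : ℂ) * conj (indFun A (fun x => (ξ x : ℂ)) a) = 1
  have hA : (Nat.card A : ℂ) ≠ 0 := by exact_mod_cast Nat.card_pos.ne'
  have key : ∀ g : L, ∑ a : A, (ξ a : ℂ) *
      conj (extendByZero A (fun x => (ξ x : ℂ)) (g⁻¹ * a * g)) = if g ∈ A then (Nat.card A : ℂ) else 0 := by
    intro g
    split_ifs with hg
    · have h1 : ∀ a : A, (ξ a : ℂ) * conj (extendByZero A (fun x => (ξ x : ℂ)) (g⁻¹ * a * g)) = 1 := by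
        intro a
        have h2 := S0150.extendByZero_coe A (fun x => (ξ x : ℂ)) ((⟨g, hg⟩ : A)⁻¹ * a * ⟨g, hg⟩)
        simp only [Subgroup.coe_mul, Subgroup.coe_inv] at h2
        rw [h2]
        have h3 : ξ ((⟨g, hg⟩ : A)⁻¹ * a * ⟨g, hg⟩) = ξ a := by
          rw [map_mul, map_mul, map_inv]
          rw [mul_comm, mul_inv_cancel_left]
        rw [h3]
        exact mul_conj_lin ξ a
      rw [Finset.sum_congr rfl (fun a _ => h1 a), Finset.sum_const, Finset.card_univ,
        ← Nat.card_eq_fintype_card, nsmul_eq_mul, mul_one]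
    · have hcon : ∃ (a b : ↥A), (b : L) = g⁻¹ * a * g ∧ ξ a ≠ ξ b := by
        by_contra hc
        push Not at hc
        apply hg
        have := h g⁻¹ (fun a b hab => hc a b (by rw [hab, inv_inv]))
        exact (inv_mem_iff (H := A)).mp this
      obtain ⟨a₀, b₀, hb₀, hne⟩ := hcon
      set S := ∑ a : A, (ξ a : ℂ) * conj (extendByZero A (fun x => (ξ x : ℂ)) (g⁻¹ * a * g))
        with hS
      have h1 : S = (ξ a₀ : ℂ) * conj (ξ b₀ : ℂ) * S := by
        calc S = ∑ a : A, (ξ (a₀ * a) : ℂ) *
              conj (extendByZero A (fun x => (ξ x : ℂ)) (g⁻¹ * (a₀ * a : A) * g)) :=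
              (Fintype.sum_equiv (Equiv.mulLeft a₀) _ _ (fun a => rfl)).symm
          _ = ∑ a : A, (ξ a₀ : ℂ) * conj (ξ b₀ : ℂ) * ((ξ a : ℂ) *
              conj (extendByZero A (fun x => (ξ x : ℂ)) (g⁻¹ * a * g))) := by
              refine Finset.sum_congr rfl fun a _ => ?_
              have h2 : g⁻¹ * ((a₀ * a : A) : L) * g = (b₀ : L) * (g⁻¹ * a * g) := by
                rw [hb₀, Subgroup.coe_mul]; group
              rw [h2, extendByZero_mul, map_mul, map_mul, Units.val_mul]
              ring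
          _ = _ := by rw [← Finset.mul_sum]
      by_contra hS0
      apply hne
      have h3 : (ξ a₀ : ℂ) * conj (ξ b₀ : ℂ) = 1 := by
        have : ((ξ a₀ : ℂ) * conj (ξ b₀ : ℂ) - 1) * S = 0 := by
          rw [sub_mul, one_mul, ← h1, sub_self]
        rcases mul_eq_zero.mp this with h4 | h4
        · exact sub_eq_zero.mp h4
        · exact absurd h4 hS0
      have h5 := mul_conj_lin ξ b₀
      apply Units.ext
      have h6 : conj (ξ b₀ : ℂ) ≠ 0 := by
        intro h0; rw [h0, mul_zero] at h5; exact zero_ne_one h5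
      exact mul_right_cancel₀ h6 (h3.trans h5.symm)
  have h7 : ∑ a : A, (ξ a : ℂ) * conj (indFun A (fun x => (ξ x : ℂ)) a) = (Nat.card A : ℂ) := by
    calc ∑ a : A, (ξ a : ℂ) * conj (indFun A (fun x => (ξ x : ℂ)) a)
        = ∑ a : A, ∑ g : L, (conj (Nat.card A : ℂ)⁻¹) * ((ξ a : ℂ) *
            conj (extendByZero A (fun x => (ξ x : ℂ)) (g⁻¹ * a * g))) := by
          refine Finset.sum_congr rfl fun a _ => ?_
          rw [S0150.indFun_apply, map_mul, map_sum, Finset.mul_sum, Finset.mul_sum]
          refine Finset.sum_congr rfl fun g _ => ?_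
          ring
      _ = ∑ g : L, (conj (Nat.card A : ℂ)⁻¹) * ∑ a : A, ((ξ a : ℂ) *
            conj (extendByZero A (fun x => (ξ x : ℂ)) (g⁻¹ * a * g))) := by
          rw [Finset.sum_comm]
          refine Finset.sum_congr rfl fun g _ => ?_
          rw [Finset.mul_sum]
      _ = ∑ g : L, (conj (Nat.card A : ℂ)⁻¹) * (if g ∈ A then (Nat.card A : ℂ) else 0) := by
          refine Finset.sum_congr rfl fun g _ => ?_
          rw [key g]
      _ = (Nat.card A : ℂ) := by
          rw [← Finset.mul_sum, Finset.sum_ite, Finset.sum_const_zero, add_zero, Finset.sum_const,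
            nsmul_eq_mul]
          have hc : (Finset.univ.filter (fun g => g ∈ A)).card = Nat.card A := by
            rw [Nat.card_eq_fintype_card, Fintype.card_subtype]
          rw [hc, map_inv₀, Complex.conj_natCast, ← mul_assoc, inv_mul_cancel₀ hA, one_mul]
  rw [h7, inv_mul_cancel₀ hA]

end Cfsg.Agent.OddOrderCharacters.PF9.MackeyIrr
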