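import Cfsg.Agent.OddOrderCharacters.PF9.Defs
import Cfsg.Agent.OddOrderCharacters.PF9.GaloisClifford

/-!
Peterfalvi (9.9)(a), (c) and (9.10).
-/

set_option autoImplicit false

open scoped ComplexConjugate
open Cfsg
open Cfsg.Agent.OddOrderCharacters.PFDefs
open Cfsg.Agent.OddOrderCharacters.PF9.Defs

namespace Cfsg.Agent.OddOrderCharacters.PF9.NineCore

open Cfsg.Agent.Characters Cfsg.Agent.OddOrderCharacters.IndRes
open Cfsg.Agent.OddOrderCharacters.NormalInduced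
open Cfsg.Agent.OddOrderCharacters.PF9.GaloisClifford

universe u

section group

variable {L : Type u} [Group L]

theorem comm_mem_iff (N : Subgroup L) [hN : N.Normal] (x h : L) :
    x * h * x⁻¹ * h⁻¹ ∈ N ↔
      QuotientGroup.mk' N x * QuotientGroup.mk' N h =
        QuotientGroup.mk' N h * QuotientGroup.mk' N x := by
  have h1 : x * h * x⁻¹ * h⁻¹ ∈ N ↔ QuotientGroup.mk' N (x * h * x⁻¹ * h⁻¹) = 1 := by
    rw [QuotientGroup.mk'_apply, QuotientGroup.eq_one_iff]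
  rw [h1]
  simp only [map_mul, map_inv]
  constructor
  · intro h2
    have h3 := mul_inv_eq_one.mp h2
    rw [mul_inv_eq_iff_eq_mul] at h3
    exact h3
  · intro h2
    rw [h2]
    group

theorem relIndex_sup {N A : Subgroup L} [hN : N.Normal] (h : N ⊓ A = ⊥) :
    N.relIndex (N ⊔ A) = Nat.card A := by
  rw [sup_comm, Subgroup.relIndex_sup_right, ← Subgroup.inf_relIndex_right, h,
    Subgroup.relIndex_bot_left]

variable {K H U W₁ W₂ H₀ C : Subgroup L} {p q n : ℕ}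

theorem C_le (s : Setup K H U W₁ W₂ H₀ C p q n) : C ≤ U := s.C_lt.le

theorem HC_le (s : Setup K H U W₁ W₂ H₀ C p q n) : H ⊔ C ≤ K := by
  rw [← s.hyp.K_eq]
  exact sup_le_sup_left (C_le s) H

theorem triv_of_mem (s : Setup K H U W₁ W₂ H₀ C p q n) {t : L} (ht : t ∈ H ⊔ C) {h : L}
    (hh : h ∈ H) : t * h * t⁻¹ * h⁻¹ ∈ H₀ := by
  have _ := s.kernel.normal
  have hle : H ⊔ C ≤ (Subgroup.centralizer ((H.map (QuotientGroup.mk' H₀) :
      Subgroup (L ⧸ H₀)) : Set (L ⧸ H₀))).comap (QuotientGroup.mk' H₀) := by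
    rw [sup_le_iff]
    refine ⟨fun x hx => ?_, fun x hx => ?_⟩
    · rw [Subgroup.mem_comap, Subgroup.mem_centralizer_iff]
      rintro _ ⟨y, hy, rfl⟩
      refine (comm_mem_iff H₀ y x).mp (s.H_comm ?_)
      exact Subgroup.commutator_mem_commutator hy hx
    · rw [Subgroup.mem_comap, Subgroup.mem_centralizer_iff]
      rintro _ ⟨y, hy, rfl⟩
      exact ((comm_mem_iff H₀ x y).mp (((s.mem_C x).mp hx).2 y hy)).symm
  have h1 := hle ht
  rw [Subgroup.mem_comap, Subgroup.mem_centralizer_iff] at h1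
  exact (comm_mem_iff H₀ t h).mpr (h1 _ ⟨h, hh, rfl⟩).symm

theorem free_of_not_mem (s : Setup K H U W₁ W₂ H₀ C p q n)
    (hf : ∀ x ∈ U, x ∉ C → ∀ h ∈ H, x * h * x⁻¹ * h⁻¹ ∈ H₀ → h ∈ H₀) {x : L} (hxK : x ∈ K)
    (hx : x ∉ H ⊔ C) {h : L} (hh : h ∈ H) (hc : x * h * x⁻¹ * h⁻¹ ∈ H₀) : h ∈ H₀ := by
  have _ := s.kernel.normal
  have _ := s.hyp.H_normal
  rw [← s.hyp.K_eq] at hxK
  obtain ⟨y, hy, z, hz, rfl⟩ := Subgroup.mem_sup_of_normal_left.mp hxK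
  have hzC : z ∉ C := fun h => hx (Subgroup.mul_mem _ (Subgroup.mem_sup_left hy)
    (Subgroup.mem_sup_right h))
  refine hf z hz hzC h hh ?_
  have h1 := (comm_mem_iff H₀ (y * z) h).mp hc
  have h2 := (comm_mem_iff H₀ y h).mp (s.H_comm (Subgroup.commutator_mem_commutator hy hh))
  rw [comm_mem_iff H₀]
  rw [map_mul, mul_assoc, ← mul_assoc (QuotientGroup.mk' H₀ h), ← h2, mul_assoc] at h1
  exact mul_left_cancel h1

variable [Finite L]

theorem HC_relIndex (s : Setup K H U W₁ W₂ H₀ C p q n) : (H ⊔ C).relIndex K = n := by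
  have _ := s.hyp.H_normal
  rw [← s.hyp.K_eq, ← s.u_eq]
  have h1 : H ⊓ C = ⊥ := by
    rw [← le_bot_iff, ← s.hyp.HU_inf]
    exact inf_le_inf_left H (C_le s)
  have h2 := Subgroup.relIndex_mul_relIndex H (H ⊔ C) (H ⊔ U) le_sup_left
    (sup_le_sup_left (C_le s) H)
  rw [relIndex_sup h1, relIndex_sup s.hyp.HU_inf] at h2
  have h3 := Subgroup.relIndex_mul_relIndex ⊥ C U bot_le (C_le s)
  rw [Subgroup.relIndex_bot_left, Subgroup.relIndex_bot_left] at h3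
  exact Nat.eq_of_mul_eq_mul_left (Nat.card_pos (α := C)) (h2.trans h3.symm)

omit [Finite L] in
theorem commutator_lt_self (N : Subgroup L) (hs : Group.IsSolvable N) (hN : N ≠ ⊥) :
    ⁅N, N⁆ < N := by
  have hN' : Nontrivial N := (Subgroup.nontrivial_iff_ne_bot N).mpr hN
  have h1 := Group.IsSolvable.commutator_lt_top_of_nontrivial N
  rw [← Subgroup.map_subtype_lt_map_subtype, map_commutator_eq, ← MonoidHom.range_eq_map,
    Subgroup.range_subtype] at h1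
  exact h1

/-- The two indices used in (9.9)(c). -/
theorem index_facts (s : Setup K H U W₁ W₂ H₀ C p q n) :
    (H₀ ⊔ ⁅C, C⁆).relIndex K = p ^ q * (n * ⁅C, C⁆.relIndex C) ∧
      ((H₀ ⊔ ⁅C, C⁆) ⊔ H).relIndex K = n * ⁅C, C⁆.relIndex C := by
  have _ := s.hyp.H_normal
  have _ := s.kernel.normal
  have hC' : ⁅C, C⁆ ≤ C := by
    rw [Subgroup.commutator_le]
    exact fun a ha b hb => C.mul_mem (C.mul_mem (C.mul_mem ha hb) (C.inv_mem ha)) (C.inv_mem hb)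
  have hC'U : ⁅C, C⁆ ≤ U := hC'.trans (C_le s)
  have e0 : (H₀ ⊔ ⁅C, C⁆) ⊔ H = H ⊔ ⁅C, C⁆ := by
    rw [sup_comm, ← sup_assoc, sup_eq_left.mpr s.kernel.lt.le]
  rw [e0, ← s.hyp.K_eq]
  have i1 : H ⊓ ⁅C, C⁆ = ⊥ := by
    rw [← le_bot_iff, ← s.hyp.HU_inf]
    exact inf_le_inf_left H hC'U
  have i2 : H₀ ⊓ ⁅C, C⁆ = ⊥ := by
    rw [← le_bot_iff, ← i1]
    exact inf_le_inf_right _ s.kernel.lt.le
  -- `|U| = |C'| * |C : C'| * n`
  have a1 := Subgroup.relIndex_mul_relIndex ⊥ ⁅C, C⁆ C bot_le hC'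
  have a2 := Subgroup.relIndex_mul_relIndex ⊥ C U bot_le (C_le s)
  rw [Subgroup.relIndex_bot_left, Subgroup.relIndex_bot_left] at a1 a2
  rw [s.u_eq] at a2
  have a3 : Nat.card ↥U = Nat.card ↥⁅C, C⁆ * (n * ⁅C, C⁆.relIndex C) := by
    rw [← a2, ← a1]; ring
  -- second index
  have b1 := Subgroup.relIndex_mul_relIndex H (H ⊔ ⁅C, C⁆) (H ⊔ U) le_sup_left
    (sup_le_sup_left hC'U H)
  rw [relIndex_sup i1, relIndex_sup s.hyp.HU_inf, a3] at b1
  have hpos : 0 < Nat.card ↥⁅C, C⁆ := Nat.card_pos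
  refine ⟨?_, Nat.eq_of_mul_eq_mul_left hpos b1⟩
  -- first index
  have c1 := Subgroup.relIndex_mul_relIndex H₀ (H₀ ⊔ ⁅C, C⁆) (H ⊔ U) le_sup_left
    (sup_le_sup s.kernel.lt.le hC'U)
  have c2 := Subgroup.relIndex_mul_relIndex H₀ H (H ⊔ U) s.kernel.lt.le le_sup_left
  rw [relIndex_sup i2] at c1
  rw [s.card_bar, relIndex_sup s.hyp.HU_inf, a3] at c2
  refine Nat.eq_of_mul_eq_mul_left hpos ?_
  rw [c1, ← c2]
  ring

omit [Finite L] in
theorem K_index (s : Setup K H U W₁ W₂ H₀ C p q n) : K.index = q := by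
  have _ := s.hyp.K_normal
  rw [← s.q_eq, ← relIndex_sup s.hyp.W₁_inf, s.hyp.W₁_sup, Subgroup.relIndex_top_right]

end group

section characters

variable {L : Type u} [Group L] [Fintype L] {K H U W₁ W₂ H₀ C : Subgroup L} {p q n : ℕ}

omit [Fintype L] in
/-- If `θ ∈ X(H₀)` and `U / C` acts semiregularly on `H / H₀`, then `θ` is induced from an
irreducible character of `HC`. -/
theorem exists_ind [Finite L] [Fintype ↥K] (s : Setup K H U W₁ W₂ H₀ C p q n)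
    (hf : ∀ x ∈ U, x ∉ C → ∀ h ∈ H, x * h * x⁻¹ * h⁻¹ ∈ H₀ → h ∈ H₀) {θ : ↥K → ℂ}
    (hθ : InX K H H₀ θ) :
    ∃ ψ : ↥((H ⊔ C).subgroupOf K) → ℂ, IsIrrCharacter ↥((H ⊔ C).subgroupOf K) ψ ∧
      θ = indFun ((H ⊔ C).subgroupOf K) ψ := by
  have _ := s.kernel.normal
  have _ := s.hyp.H_normal
  have _ := s.HC_normal
  obtain ⟨x, hx, hx'⟩ := hθ.not_ker
  refine exists_induced (H₀.subgroupOf K) (H.subgroupOf K) ((H ⊔ C).subgroupOf K) ?_ ?_ ?_ ?_
    hθ.irr ?_ ⟨x, hx, hx'⟩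
  · exact fun x hx => s.kernel.lt.le hx
  · exact fun x hx => Subgroup.mem_sup_left (S := H) hx
  · exact fun t ht h hh => triv_of_mem s ht hh
  · exact fun x hx h hh hc => free_of_not_mem s hf x.2 hx hh hc
  · exact fun h hh => hθ.ker h hh

theorem galois_dvd' (s : Setup K H U W₁ W₂ H₀ C p q n)
    (hf : ∀ x ∈ U, x ∉ C → ∀ h ∈ H, x * h * x⁻¹ * h⁻¹ ∈ H₀ → h ∈ H₀) {θ : ↥K → ℂ}
    (hθ : InX K H H₀ θ) : ∃ k : ℕ, θ 1 = (n : ℂ) * k := by
  classical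
  have _ : Fintype K := Fintype.ofFinite K
  obtain ⟨ψ, hψ, rfl⟩ := exists_ind s hf hθ
  obtain ⟨k, -, hk⟩ := Core.isIrr_apply_one hψ
  refine ⟨k, ?_⟩
  rw [indFun_apply_one, hk]
  congr 2
  exact HC_relIndex s

omit [Fintype L] in
/-- `X(H₀C') ⊆ X(H₀)`. -/
theorem inX_mono {Y Z : Subgroup L} (h : Y ≤ Z) {θ : ↥K → ℂ} (hθ : InX K H Z θ) : InX K H Y θ :=
  ⟨hθ.irr, hθ.not_ker, fun y hy => hθ.ker y (h hy)⟩

theorem seqIndD_mono (K X : Subgroup L) {Y Z : Subgroup L} (h : Y ≤ Z) :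
    seqIndD K X Z ⊆ seqIndD K X Y := by
  rintro _ ⟨θ, h1, h2, h3, rfl⟩
  exact ⟨θ, h1, h2, fun y hy => h3 y (h hy), rfl⟩

theorem finite_seqIndD (K X Y : Subgroup L) : (seqIndD K X Y).Finite := by
  have _ : Finite (IrrCharacter K) := Characters.Core.finite_irr
  refine (Set.finite_range (fun θ : IrrCharacter K => indFun K θ.1)).subset ?_
  rintro φ ⟨θ, h1, _, _, rfl⟩
  exact ⟨⟨θ, h1⟩, rfl⟩

theorem galois_degree' (s : Setup K H U W₁ W₂ H₀ C p q n)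
    (hf : ∀ x ∈ U, x ∉ C → ∀ h ∈ H, x * h * x⁻¹ * h⁻¹ ∈ H₀ → h ∈ H₀) {θ : ↥K → ℂ}
    (hθ : InX K H (H₀ ⊔ ⁅C, C⁆) θ) :
    θ 1 = n ∧ ∃ ξ : ↥(H ⊔ C) →* ℂˣ, indFun K θ = indFun (H ⊔ C) (fun x => (ξ x : ℂ)) := by
  classical
  have _ : Fintype K := Fintype.ofFinite K
  have _ := s.HC_normal
  have _ := s.H₀C'_normal
  obtain ⟨ψ, hψ, h1⟩ := exists_ind s hf (inX_mono le_sup_left hθ)
  have hle : H₀ ⊔ ⁅C, C⁆ ≤ H ⊔ C := sup_le_sup s.kernel.lt.le (by
    rw [Subgroup.commutator_le]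
    exact fun a ha b hb => C.mul_mem (C.mul_mem (C.mul_mem ha hb) (C.inv_mem ha)) (C.inv_mem hb))
  have hker : ∀ a : ↥((H ⊔ C).subgroupOf K), ((a : K) : L) ∈ H₀ ⊔ ⁅C, C⁆ → ψ a = ψ 1 := by
    intro a ha
    refine OutsideCentral.ker_of_indFun_ker ((H ⊔ C).subgroupOf K)
      ((H₀ ⊔ ⁅C, C⁆).subgroupOf K) hψ (fun z hz => ?_) a ha
    rw [← h1]
    exact hθ.ker z hz
  have hdeg : ψ 1 = 1 := by
    refine degree_one_of_comm hψ fun a b => hker _ (s.HC_comm ?_)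
    exact Subgroup.commutator_mem_commutator a.2 b.2
  refine ⟨?_, ?_⟩
  · rw [h1, indFun_apply_one, hdeg, mul_one]
    congr 1
    exact HC_relIndex s
  · obtain ⟨f, rfl⟩ := Linear.exists_hom_of_isIrrCharacter hψ hdeg
    let e : ↥(H ⊔ C) →* ↥((H ⊔ C).subgroupOf K) :=
      { toFun := fun x => ⟨⟨x, HC_le s x.2⟩, x.2⟩
        map_one' := rfl
        map_mul' := fun _ _ => rfl }
    refine ⟨f.comp e, ?_⟩
    rw [h1, ← indFun_trans (H ⊔ C) K (HC_le s)]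
    rfl

/-- If `Ind θ` is reducible, then `θ` is invariant in `L`. -/
theorem invariant_of_not_irr (s : Setup K H U W₁ W₂ H₀ C p q n) [hK : K.Normal] {θ : ↥K → ℂ}
    (hθ : IsIrrCharacter ↥K θ) (h : ¬ IsIrrCharacter L (indFun K θ)) (g : L) :
    conjFn K θ g = θ := by
  classical
  have _ : Fintype K := Fintype.ofFinite K
  let S : Subgroup L :=
    { carrier := {g | conjFn K θ g = θ}
      mul_mem' := by
        intro a b ha hb
        show conjFn K θ (a * b) = θ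
        rw [conjFn_mul, show conjFn K θ a = θ from ha, show conjFn K θ b = θ from hb]
      one_mem' := conjFn_one K θ
      inv_mem' := by
        intro a ha
        show conjFn K θ a⁻¹ = θ
        have h1 : conjFn K θ a = θ := ha
        conv_lhs => rw [← h1]
        rw [← conjFn_mul, mul_inv_cancel, conjFn_one] }
  have hKS : K ≤ S := fun x hx => conjFn_of_mem K (Core.isIrr_isClassFunction hθ) hx
  have hmul := Subgroup.relIndex_mul_index hKS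
  have hq : q.Prime := s.q_eq ▸ s.hyp.W₁_prime
  rw [K_index s] at hmul
  have hor : K.relIndex S = 1 ∨ K.relIndex S = q := by
    have : K.relIndex S ∣ q := Dvd.intro _ hmul
    exact (Nat.dvd_prime hq).mp this
  rcases hor with h1 | h1
  · exfalso
    apply h
    have hSK : S ≤ K := Subgroup.relIndex_eq_one.mp h1
    have hSK' : ∀ x : L, conjFn K θ x = θ ↔ x ∈ K := fun x => ⟨fun hx => hSK hx, fun hx => hKS hx⟩
    refine Core.isIrr_of_classInner_self (isCharacter_indFun K (Core.isIrr_isCharacter hθ)) ?_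
    rw [classInner_indFun_self K hθ]
    have : Nat.card {g : L // conjFn K θ g = θ} = Nat.card K :=
      Nat.card_congr (Equiv.subtypeEquivRight hSK')
    rw [this, inv_mul_cancel₀ Core.card_ne_zero_complex]
  · have h2 : S.index = 1 := by
      rw [h1] at hmul
      exact Nat.eq_of_mul_eq_mul_left hq.pos (by rw [hmul, mul_one])
    have h3 : S = ⊤ := Subgroup.index_eq_one.mp h2
    have h4 : g ∈ S := h3 ▸ Subgroup.mem_top g
    exact h4

/-- Induction is injective on invariant functions. -/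
theorem eq_of_indFun_eq [hK : K.Normal] {θ θ' : ↥K → ℂ} (h1 : ∀ g, conjFn K θ g = θ)
    (h2 : ∀ g, conjFn K θ' g = θ') (h : indFun K θ = indFun K θ') : θ = θ' := by
  classical
  have _ : Fintype K := Fintype.ofFinite K
  have h3 := congrArg (res K) h
  rw [res_indFun, res_indFun, Finset.sum_congr rfl fun g _ => h1 g,
    Finset.sum_congr rfl fun g _ => h2 g] at h3
  simp only [Finset.sum_const, Finset.card_univ] at h3
  have h4 : (Nat.card ↥K : ℂ)⁻¹ ≠ 0 := inv_ne_zero Core.card_ne_zero_complex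
  have h5 := smul_right_injective (↥K → ℂ) h4 h3
  funext x
  have h6 := congrFun h5 x
  simp only [Pi.smul_apply, nsmul_eq_mul] at h6
  exact mul_left_cancel₀ (Nat.cast_ne_zero.mpr Fintype.card_ne_zero) h6

/-- Peterfalvi (9.9)(c). -/
theorem galois_all_reducible' (s : Setup K H U W₁ W₂ H₀ C p q n)
    (hf : ∀ x ∈ U, x ∉ C → ∀ h ∈ H, x * h * x⁻¹ * h⁻¹ ∈ H₀ → h ∈ H₀)
    (hdvd : n ∣ (p ^ q - 1) / (p - 1))
    (hred : {ζ | ζ ∈ seqIndD K H H₀ ∧ ¬ IsIrrCharacter L ζ}.ncard = p - 1)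
    (hall : ∀ ζ ∈ seqIndD K H (H₀ ⊔ ⁅C, C⁆), ¬ IsIrrCharacter L ζ) :
    C = ⊥ ∧ n = (p ^ q - 1) / (p - 1) := by
  classical
  have _ : Fintype K := Fintype.ofFinite K
  have _ := s.hyp.K_normal
  have _ := s.hyp.H_normal
  have _ := s.H₀C'_normal
  have hC' : ⁅C, C⁆ ≤ C := by
    rw [Subgroup.commutator_le]
    exact fun a ha b hb => C.mul_mem (C.mul_mem (C.mul_mem ha hb) (C.inv_mem ha)) (C.inv_mem hb)
  have hle : H₀ ⊔ ⁅C, C⁆ ≤ K := by
    rw [← s.hyp.K_eq]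
    exact sup_le_sup s.kernel.lt.le (hC'.trans (C_le s))
  have hHK : H ≤ K := by rw [← s.hyp.K_eq]; exact le_sup_left
  let X : Type u := {θ : IrrCharacter ↥K // (∀ a ∈ (H₀ ⊔ ⁅C, C⁆).subgroupOf K, θ.1 a = θ.1 1) ∧
    ∃ h ∈ H.subgroupOf K, θ.1 h ≠ θ.1 1}
  have hX : ∀ θ : X, InX K H (H₀ ⊔ ⁅C, C⁆) θ.1.1 := fun θ =>
    ⟨θ.1.2, by obtain ⟨h, hh, hh'⟩ := θ.2.2; exact ⟨h, hh, hh'⟩, fun y hy => θ.2.1 y hy⟩
  -- counting
  have hcard := card_mul_sq ((H₀ ⊔ ⁅C, C⁆).subgroupOf K) (H.subgroupOf K) n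
    (fun θ h1 h2 h3 => (galois_degree' s hf (θ := θ)
      ⟨h1, by obtain ⟨h, hh, hh'⟩ := h3; exact ⟨h, hh, hh'⟩, fun y hy => h2 y hy⟩).1)
  change Nat.card X * n ^ 2 + _ = _ at hcard
  rw [← Subgroup.subgroupOf_sup hle hHK] at hcard
  change Nat.card X * n ^ 2 + ((H₀ ⊔ ⁅C, C⁆) ⊔ H).relIndex K = (H₀ ⊔ ⁅C, C⁆).relIndex K at hcard
  rw [(index_facts s).1, (index_facts s).2] at hcard
  -- the number of members of `X(H₀C')` is at most `p - 1`
  have hXle : Nat.card X ≤ p - 1 := by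
    have hfin : {ζ | ζ ∈ seqIndD K H H₀ ∧ ¬ IsIrrCharacter L ζ}.Finite :=
      (finite_seqIndD K H H₀).subset fun ζ h => h.1
    rw [← hred, ← Nat.card_coe_set_eq]
    have _ : Finite ↥{ζ | ζ ∈ seqIndD K H H₀ ∧ ¬ IsIrrCharacter L ζ} := hfin
    have hmem : ∀ θ : X, indFun K θ.1.1 ∈ seqIndD K H (H₀ ⊔ ⁅C, C⁆) := fun θ =>
      (mem_seqIndD_iff K H _ _).mpr ⟨θ.1.1, hX θ, rfl⟩
    refine Nat.card_le_card_of_injective (fun θ : X =>
      (⟨indFun K θ.1.1, seqIndD_mono K H le_sup_left (hmem θ), hall _ (hmem θ)⟩ :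
        ↥{ζ | ζ ∈ seqIndD K H H₀ ∧ ¬ IsIrrCharacter L ζ})) ?_
    intro θ θ' h
    have h1 : indFun K θ.1.1 = indFun K θ'.1.1 := congrArg Subtype.val h
    have h2 := eq_of_indFun_eq (invariant_of_not_irr s θ.1.2 (hall _ (hmem θ)))
      (invariant_of_not_irr s θ'.1.2 (hall _ (hmem θ'))) h1
    exact Subtype.ext (Subtype.ext h2)
  -- arithmetic
  set c := ⁅C, C⁆.relIndex C with hc
  have hn : 0 < n := lt_trans one_pos s.u_gt
  have hp := s.p_prime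
  have hq : q.Prime := s.q_eq ▸ s.hyp.W₁_prime
  have hm : (p - 1) * ((p ^ q - 1) / (p - 1)) = p ^ q - 1 :=
    Nat.mul_div_cancel' (by simpa using Nat.sub_dvd_pow_sub_pow p 1 q)
  set m := (p ^ q - 1) / (p - 1) with hm'
  have hP : 1 < p ^ q := Nat.one_lt_pow hq.ne_zero hp.one_lt
  obtain ⟨P, hP'⟩ : ∃ P, p ^ q = P + 1 := ⟨p ^ q - 1, by omega⟩
  obtain ⟨r, hr⟩ : ∃ r, p = r + 1 := ⟨p - 1, by have := hp.one_lt; omega⟩
  have hPpos : 0 < P := by omega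
  have hrpos : 0 < r := by have := hp.one_lt; omega
  rw [hP'] at hm hcard
  rw [hr] at hm hXle
  simp only [Nat.add_sub_cancel] at hm hXle
  have hmpos : 0 < m := by
    rcases Nat.eq_zero_or_pos m with h | h
    · rw [h, mul_zero] at hm; omega
    · exact h
  have hnm : n ≤ m := Nat.le_of_dvd hmpos hdvd
  have e1 : Nat.card X * n = P * c := by
    have : n * (Nat.card X * n) = n * (P * c) := by nlinarith
    exact Nat.eq_of_mul_eq_mul_left hn this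
  have hcpos : 0 < c := 
    Nat.pos_of_ne_zero (Subgroup.index_ne_zero_of_finite (H := ⁅C, C⁆.subgroupOf C))
  have e2 : Nat.card X * n ≤ P := by
    rw [← hm]; exact Nat.mul_le_mul hXle hnm
  have hc1 : c = 1 := by
    have : P * c ≤ P * 1 := by rw [← e1, mul_one]; exact e2
    have := Nat.le_of_mul_le_mul_left this hPpos
    omega
  have hmn : m ≤ n := by
    have : r * m ≤ r * n := by
      rw [hm, ← mul_one P, ← hc1, ← e1]
      exact Nat.mul_le_mul_right n hXle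
    exact Nat.le_of_mul_le_mul_left this hrpos
  refine ⟨?_, le_antisymm hnm hmn⟩
  by_contra hCne
  have hsol : Group.IsSolvable ↥C := by
    have := s.hyp.U_nilp
    exact Group.isSolvable_of_isSolvable_injective (Subgroup.inclusion_injective (C_le s))
  have hlt := commutator_lt_self C hsol hCne
  exact hlt.not_ge (Subgroup.relIndex_eq_one.mp (hc ▸ hc1))

/-- Peterfalvi (9.10), Galois case. -/
theorem reducible_core_cases_galois' (s : Setup K H U W₁ W₂ H₀ C p q n)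
    (hg : Galois H U H₀)
    (hf : ∀ x ∈ U, x ∉ C → ∀ h ∈ H, x * h * x⁻¹ * h⁻¹ ∈ H₀ → h ∈ H₀)
    (hdvd : n ∣ (p ^ q - 1) / (p - 1))
    (hcyc : ∃ g ∈ U, ∀ x ∈ U, ∃ k : ℕ, (g ^ k)⁻¹ * x ∈ C)
    (hred : {ζ | ζ ∈ seqIndD K H H₀ ∧ ¬ IsIrrCharacter L ζ}.ncard = p - 1) :
    (∃ ζ : L → ℂ, IsIrrCharacter L ζ ∧ ζ ∈ seqIndD K H (H₀ ⊔ ⁅C, C⁆) ∧ ζ 1 = (q : ℂ) * n ∧
        ∃ ξ : ↥(H ⊔ C) →* ℂˣ, ζ = indFun (H ⊔ C) (fun x => (ξ x : ℂ))) ∨
      (Galois H U H₀ ∧ C = ⊥ ∧ IsCyclic ↥U ∧ Nat.card ↥U = (p ^ q - 1) / (p - 1) ∧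
        ∀ x ∈ U, x ≠ 1 → ∀ h ∈ H, x * h * x⁻¹ * h⁻¹ ∈ H₀ → h ∈ H₀) := by
  by_cases hall : ∀ ζ ∈ seqIndD K H (H₀ ⊔ ⁅C, C⁆), ¬ IsIrrCharacter L ζ
  · right
    obtain ⟨hC, hn⟩ := galois_all_reducible' s hf hdvd hred hall
    refine ⟨hg, hC, ?_, ?_, ?_⟩
    · obtain ⟨g, hgU, hg'⟩ := hcyc
      refine ⟨⟨⟨g, hgU⟩, fun x => ?_⟩⟩
      obtain ⟨k, hk⟩ := hg' x x.2
      rw [hC, Subgroup.mem_bot] at hk
      refine ⟨k, Subtype.ext ?_⟩
      have := inv_mul_eq_one.mp hk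
      simpa using this
    · have := s.u_eq
      rw [hC, Subgroup.relIndex_bot_left] at this
      rw [this, hn]
    · intro x hx hx1
      refine hf x hx ?_
      rwa [hC, Subgroup.mem_bot]
  · left
    push Not at hall
    obtain ⟨ζ, hζ, hζ'⟩ := hall
    obtain ⟨θ, hθ, h1⟩ := (mem_seqIndD_iff K H _ _).mp hζ
    obtain ⟨h2, ξ, h3⟩ := galois_degree' s hf hθ
    refine ⟨ζ, hζ', hζ, ?_, ξ, h1.trans h3⟩
    rw [h1, indFun_apply_one, h2, K_index s]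

end characters

end Cfsg.Agent.OddOrderCharacters.PF9.NineCore
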