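import Mathlib

/-!
# Linear algebra behind Peterfalvi (9.7)

`V` is a finite vector space over `ZMod p` of prime dimension `q`, `S` a set of endomorphisms permuted by
conjugation by a linear automorphism `w` of order dividing `q`.
-/

set_option autoImplicit false
set_option linter.style.haveILetI false
set_option linter.deprecated false

namespace Cfsg.Agent.OddOrderCharacters.PF9.SevenLin

open Module

variable {p : ℕ} [Fact p.Prime] {V : Type*} [AddCommGroup V] [Module (ZMod p) V]

/-- Invariance of a subspace under a set of endomorphisms. -/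
def Inv (S : Set (End (ZMod p) V)) (X : Submodule (ZMod p) V) : Prop :=
  ∀ s ∈ S, ∀ v ∈ X, s v ∈ X

theorem inv_adjoin {S : Set (End (ZMod p) V)} {X : Submodule (ZMod p) V} (hX : Inv S X)
    {r : End (ZMod p) V} (hr : r ∈ Algebra.adjoin (ZMod p) S) : ∀ v ∈ X, r v ∈ X := by
  induction hr using Algebra.adjoin_induction with
  | mem x hx => exact hX x hx
  | algebraMap c =>
    intro v hv
    rw [Module.algebraMap_end_apply]
    exact X.smul_mem c hv
  | add x y _ _ hx hy => intro v hv; exact X.add_mem (hx v hv) (hy v hv)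
  | mul x y _ _ hx hy => intro v hv; exact hx _ (hy v hv)

theorem adjoin_commute {S : Set (End (ZMod p) V)} (hcomm : ∀ a ∈ S, ∀ b ∈ S, a * b = b * a)
    {r s : End (ZMod p) V} (hr : r ∈ Algebra.adjoin (ZMod p) S)
    (hs : s ∈ Algebra.adjoin (ZMod p) S) : r * s = s * r := by
  letI := Algebra.adjoinCommRingOfComm (ZMod p) hcomm
  have := mul_comm (⟨r, hr⟩ : Algebra.adjoin (ZMod p) S) ⟨s, hs⟩
  exact congrArg Subtype.val this

/-- The kernel of an element of the commutative algebra generated by `S` is invariant. -/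
theorem inv_ker {S : Set (End (ZMod p) V)} (hcomm : ∀ a ∈ S, ∀ b ∈ S, a * b = b * a)
    {r : End (ZMod p) V} (hr : r ∈ Algebra.adjoin (ZMod p) S) : Inv S (LinearMap.ker r) := by
  intro s hs v hv
  rw [LinearMap.mem_ker] at hv ⊢
  have := adjoin_commute hcomm hr (Algebra.subset_adjoin hs)
  have h := LinearMap.congr_fun this v
  rw [Module.End.mul_apply, Module.End.mul_apply, hv, map_zero] at h
  exact h

/-- **Irreducible case**: an irreducible commuting family of endomorphisms generates a field. -/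
theorem exists_field [Finite V] {S : Set (End (ZMod p) V)}
    (hcomm : ∀ a ∈ S, ∀ b ∈ S, a * b = b * a)
    (hirr : ∀ X : Submodule (ZMod p) V, Inv S X → X = ⊥ ∨ X = ⊤) {v₀ : V} (hv₀ : v₀ ≠ 0)
    {q : ℕ} (hcard : Nat.card V = p ^ q) :
    ∃ (g : Algebra.adjoin (ZMod p) S ≃+* GaloisField p q) (f : V ≃+ GaloisField p q),
      f v₀ = 1 ∧ ∀ (r : Algebra.adjoin (ZMod p) S) (v : V),
        f ((r : End (ZMod p) V) v) = g r * f v := by
  classical
  set R := Algebra.adjoin (ZMod p) S with hR
  haveI : Finite (End (ZMod p) V) :=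
    Finite.of_injective (fun f : End (ZMod p) V => (f : V → V)) DFunLike.coe_injective
  haveI : Finite R := inferInstance
  -- injectivity on V of nonzero elements
  have hker : ∀ r : R, r ≠ 0 → LinearMap.ker (r : End (ZMod p) V) = ⊥ := by
    intro r hr
    rcases hirr _ (inv_ker hcomm r.2) with h | h
    · exact h
    · exfalso
      apply hr
      apply Subtype.ext
      rw [LinearMap.ker_eq_top] at h
      exact h
  have hinj : ∀ r : R, r ≠ 0 → ∀ v, (r : End (ZMod p) V) v = 0 → v = 0 := by
    intro r hr v hv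
    have : v ∈ LinearMap.ker (r : End (ZMod p) V) := hv
    rw [hker r hr] at this
    simpa using this
  -- evaluation at v₀
  let e : R →+ V :=
    { toFun := fun r => (r : End (ZMod p) V) v₀
      map_zero' := rfl
      map_add' := fun _ _ => rfl }
  have he_inj : Function.Injective e := by
    rw [injective_iff_map_eq_zero]
    intro r hr
    by_contra hne
    exact hv₀ (hinj r hne v₀ hr)
  have he_surj : Function.Surjective e := by
    let X : Submodule (ZMod p) V :=
      { carrier := Set.range e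
        add_mem' := by
          rintro _ _ ⟨a, rfl⟩ ⟨b, rfl⟩
          exact ⟨a + b, map_add e a b⟩
        zero_mem' := ⟨0, map_zero e⟩
        smul_mem' := by
          rintro c _ ⟨a, rfl⟩
          exact ⟨c • a, rfl⟩ }
    have hX : Inv S X := by
      rintro s hs _ ⟨r, rfl⟩
      exact ⟨⟨s, Algebra.subset_adjoin hs⟩ * r, rfl⟩
    rcases hirr X hX with h | h
    · exfalso
      have : v₀ ∈ X := ⟨1, rfl⟩
      rw [h] at this
      exact hv₀ (by simpa using this)
    · intro v
      have : v ∈ X := by rw [h]; trivial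
      exact this
  -- R is a field
  letI cr : CommRing R := Algebra.adjoinCommRingOfComm (ZMod p) hcomm
  have hnt : Nontrivial R := by
    refine ⟨⟨0, 1, fun h => ?_⟩⟩
    have h1 : ((0 : R) : End (ZMod p) V) v₀ = ((1 : R) : End (ZMod p) V) v₀ := by rw [h]
    exact hv₀ (by simpa using h1.symm)
  have hfield : IsField R := by
    refine ⟨⟨0, 1, zero_ne_one⟩, mul_comm, ?_⟩
    intro a ha
    have hi : Function.Injective (fun b : R => a * b) := by
      intro b c hbc
      have hbc' : a * b = a * c := hbc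
      have h1 : a * (b - c) = 0 := by rw [mul_sub, hbc', sub_self]
      have h2 : e (b - c) = 0 := by
        apply hinj a ha
        exact congrArg (fun r : R => (r : End (ZMod p) V) v₀) h1
      have := he_inj (h2.trans (map_zero e).symm)
      exact sub_eq_zero.1 this
    obtain ⟨b, hb⟩ := Finite.surjective_of_injective hi 1
    exact ⟨b, hb⟩
  letI fld : Field R := hfield.toField
  haveI : Fintype R := Fintype.ofFinite R
  haveI : Fintype (GaloisField p q) := Fintype.ofFinite _
  have hq : q ≠ 0 := by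
    rintro rfl
    rw [pow_zero] at hcard
    haveI : Subsingleton V := (Nat.card_eq_one_iff_unique.1 hcard).1
    exact hv₀ (Subsingleton.elim _ _)
  have hcards : Fintype.card R = Fintype.card (GaloisField p q) := by
    rw [← Nat.card_eq_fintype_card, ← Nat.card_eq_fintype_card, GaloisField.card p q hq, ← hcard]
    exact Nat.card_congr (Equiv.ofBijective e ⟨he_inj, he_surj⟩)
  let g₀ : R ≃+* GaloisField p q := FiniteField.ringEquivOfCardEq hcards
  let E : R ≃+ V := AddEquiv.ofBijective e ⟨he_inj, he_surj⟩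
  have hE : ∀ r : R, E r = (r : End (ZMod p) V) v₀ := fun r => rfl
  refine ⟨g₀, E.symm.trans g₀.toAddEquiv, ?_, ?_⟩
  · have : E.symm v₀ = 1 := by
      rw [AddEquiv.symm_apply_eq]
      rfl
    show g₀ (E.symm v₀) = 1
    rw [this, map_one]
  · intro r v
    show g₀ (E.symm _) = g₀ r * g₀ (E.symm v)
    rw [← map_mul]
    congr 1
    rw [AddEquiv.symm_apply_eq]
    have : v = E (E.symm v) := (AddEquiv.apply_symm_apply E v).symm
    conv_lhs => rw [this, hE]
    rw [hE]
    rfl

/-- Conjugation by `w` as a ring endomorphism of the algebra generated by `S`. -/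
theorem exists_conj {S : Set (End (ZMod p) V)} (w : V ≃ₗ[ZMod p] V)
    (hwS : ∀ s ∈ S, (w : End (ZMod p) V) * s * (w.symm : End (ZMod p) V) ∈ S) :
    ∃ σ : Algebra.adjoin (ZMod p) S →+* Algebra.adjoin (ZMod p) S,
      ∀ (r : Algebra.adjoin (ZMod p) S) (v : V),
        ((σ r : Algebra.adjoin (ZMod p) S) : End (ZMod p) V) (w v) =
          w ((r : End (ZMod p) V) v) := by
  have hww : (w.symm : End (ZMod p) V) * (w : End (ZMod p) V) = 1 := by
    ext v; simp
  have hww' : (w : End (ZMod p) V) * (w.symm : End (ZMod p) V) = 1 := by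
    ext v; simp
  have hmem : ∀ r ∈ Algebra.adjoin (ZMod p) S,
      (w : End (ZMod p) V) * r * (w.symm : End (ZMod p) V) ∈ Algebra.adjoin (ZMod p) S := by
    intro r hr
    induction hr using Algebra.adjoin_induction with
    | mem x hx => exact Algebra.subset_adjoin (hwS x hx)
    | algebraMap c =>
      have : (w : End (ZMod p) V) * (algebraMap (ZMod p) (End (ZMod p) V) c) *
          (w.symm : End (ZMod p) V) = algebraMap (ZMod p) (End (ZMod p) V) c := by
        rw [← Algebra.commutes c (w : End (ZMod p) V), mul_assoc, hww', mul_one]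
      rw [this]
      exact Subalgebra.algebraMap_mem _ c
    | add x y _ _ hx hy =>
      rw [mul_add, add_mul]
      exact Subalgebra.add_mem _ hx hy
    | mul x y _ _ hx hy =>
      have : (w : End (ZMod p) V) * (x * y) * (w.symm : End (ZMod p) V) =
          ((w : End (ZMod p) V) * x * (w.symm : End (ZMod p) V)) *
            ((w : End (ZMod p) V) * y * (w.symm : End (ZMod p) V)) := by
        calc (w : End (ZMod p) V) * (x * y) * (w.symm : End (ZMod p) V)
            = (w : End (ZMod p) V) * x * 1 * y * (w.symm : End (ZMod p) V) := by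
              simp only [mul_assoc, one_mul]
          _ = _ := by rw [← hww]; simp only [mul_assoc]
      rw [this]
      exact Subalgebra.mul_mem _ hx hy
  refine ⟨
    { toFun := fun r => ⟨(w : End (ZMod p) V) * r * (w.symm : End (ZMod p) V), hmem r r.2⟩
      map_one' := by
        apply Subtype.ext
        show (w : End (ZMod p) V) * 1 * (w.symm : End (ZMod p) V) = 1
        rw [mul_one, hww']
      map_mul' := by
        intro x y
        apply Subtype.ext
        show (w : End (ZMod p) V) * (x * y) * (w.symm : End (ZMod p) V) =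
          ((w : End (ZMod p) V) * x * (w.symm : End (ZMod p) V)) *
            ((w : End (ZMod p) V) * y * (w.symm : End (ZMod p) V))
        calc (w : End (ZMod p) V) * (x * y) * (w.symm : End (ZMod p) V)
            = (w : End (ZMod p) V) * x * 1 * y * (w.symm : End (ZMod p) V) := by
              simp only [mul_assoc, one_mul]
          _ = _ := by rw [← hww]; simp only [mul_assoc]
      map_zero' := by
        apply Subtype.ext
        show (w : End (ZMod p) V) * 0 * (w.symm : End (ZMod p) V) = 0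
        rw [mul_zero, zero_mul]
      map_add' := by
        intro x y
        apply Subtype.ext
        show (w : End (ZMod p) V) * (x + y) * (w.symm : End (ZMod p) V) =
          ((w : End (ZMod p) V) * x * (w.symm : End (ZMod p) V)) +
            ((w : End (ZMod p) V) * y * (w.symm : End (ZMod p) V))
        rw [mul_add, add_mul] }, ?_⟩
  intro r v
  show w ((r : End (ZMod p) V) (w.symm (w v))) = w ((r : End (ZMod p) V) v)
  rw [LinearEquiv.symm_apply_apply]

/-- Number of solutions of `x ^ p = x` in a finite field of characteristic `p`. -/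
theorem card_pow_eq_self {q : ℕ} :
    p ≤ Nat.card {x : GaloisField p q // x ^ p = x} := by
  have hinj : Function.Injective (fun c : ZMod p =>
      (⟨algebraMap (ZMod p) (GaloisField p q) c, by
        rw [← map_pow, ZMod.pow_card]⟩ : {x : GaloisField p q // x ^ p = x})) := by
    intro a b h
    exact (algebraMap (ZMod p) (GaloisField p q)).injective (congrArg Subtype.val h)
  have := Nat.card_le_card_of_injective _ hinj
  rwa [Nat.card_zmod] at this

/-- **Galois case** of (9.7), linear form. -/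
theorem galois_linear [Finite V] {S : Set (End (ZMod p) V)}
    (hcomm : ∀ a ∈ S, ∀ b ∈ S, a * b = b * a)
    (hirr : ∀ X : Submodule (ZMod p) V, Inv S X → X = ⊥ ∨ X = ⊤)
    {q : ℕ} (hcard : Nat.card V = p ^ q) (w : V ≃ₗ[ZMod p] V)
    (hwS : ∀ s ∈ S, (w : End (ZMod p) V) * s * (w.symm : End (ZMod p) V) ∈ S)
    (hfix : Nat.card {v : V // w v = v} = p) :
    ∃ (g : Algebra.adjoin (ZMod p) S ≃+* GaloisField p q) (f : V ≃+ GaloisField p q) (k : ℕ),
      (∀ (r : Algebra.adjoin (ZMod p) S) (v : V), f ((r : End (ZMod p) V) v) = g r * f v) ∧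
      (∀ v, f (w v) = (f v) ^ (p ^ k)) ∧ (∀ v, w v = v ↔ (f v) ^ p = f v) := by
  classical
  have hp1 : 1 < p := (Fact.out : p.Prime).one_lt
  -- a nonzero fixed vector
  obtain ⟨v₀, hwv₀, hv₀⟩ : ∃ v₀ : V, w v₀ = v₀ ∧ v₀ ≠ 0 := by
    by_contra hcon
    push Not at hcon
    have : Subsingleton {v : V // w v = v} :=
      ⟨fun a b => Subtype.ext ((hcon a a.2).trans (hcon b b.2).symm)⟩
    have h1 : Nat.card {v : V // w v = v} ≤ 1 := Finite.card_le_one_iff_subsingleton.2 this
    omega
  have hq : q ≠ 0 := by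
    rintro rfl
    rw [pow_zero] at hcard
    haveI : Subsingleton V := (Nat.card_eq_one_iff_unique.1 hcard).1
    exact hv₀ (Subsingleton.elim _ _)
  obtain ⟨g, f, hf1, hf⟩ := exists_field hcomm hirr hv₀ hcard
  obtain ⟨σ, hσ⟩ := exists_conj w hwS
  let φ : GaloisField p q →+* GaloisField p q := (g : _ →+* _).comp (σ.comp (g.symm : _ →+* _))
  have hφ : ∀ r, φ (g r) = g (σ r) := by
    intro r
    show g (σ (g.symm (g r))) = g (σ r)
    rw [RingEquiv.symm_apply_apply]
  let φ' : GaloisField p q →ₐ[ZMod p] GaloisField p q :=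
    { φ with
      commutes' := fun c => RingHom.congr_fun
        (Subsingleton.elim (φ.comp (algebraMap (ZMod p) (GaloisField p q)))
          (algebraMap (ZMod p) (GaloisField p q))) c }
  obtain ⟨k, hk⟩ := (FiniteField.bijective_frobeniusAlgHom_pow (ZMod p) (GaloisField p q)).2 φ'
  have hφk : ∀ x, φ x = x ^ (p ^ (k : ℕ)) := by
    intro x
    have h1 : φ' x = φ x := rfl
    rw [← h1, ← hk]
    show ((FiniteField.frobeniusAlgHom (ZMod p) (GaloisField p q)) ^ (k : ℕ)) x = _
    rw [AlgHom.coe_pow, FiniteField.coe_frobeniusAlgHom, pow_iterate, ZMod.card]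
  have hfv : ∀ v, f v = g (g.symm (f v)) := fun v => (RingEquiv.apply_symm_apply g _).symm
  have hev : ∀ r : Algebra.adjoin (ZMod p) S, f ((r : End (ZMod p) V) v₀) = g r := by
    intro r; rw [hf, hf1, mul_one]
  have hw : ∀ v, f (w v) = φ (f v) := by
    intro v
    -- v = r v₀
    have hv : v = ((g.symm (f v) : Algebra.adjoin (ZMod p) S) : End (ZMod p) V) v₀ := by
      apply f.injective
      rw [hev, RingEquiv.apply_symm_apply]
    set r := g.symm (f v) with hr
    conv_lhs => rw [hv, ← hσ, hwv₀, hev]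
    rw [hfv v, ← hr, hφ]
  refine ⟨g, f, k, hf, fun v => by rw [hw, hφk], ?_⟩
  -- fixed points
  have himp : ∀ v, (f v) ^ p = f v → w v = v := by
    intro v hv
    apply f.injective
    rw [hw, hφk]
    have : ∀ n : ℕ, (f v) ^ (p ^ n) = f v := by
      intro n
      induction n with
      | zero => rw [pow_zero, pow_one]
      | succ n ih => rw [pow_succ, pow_mul, ih, hv]
    exact this _
  let j : {x : GaloisField p q // x ^ p = x} → {v : V // w v = v} :=
    fun x => ⟨f.symm x, himp _ (by rw [AddEquiv.apply_symm_apply]; exact x.2)⟩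
  have hj : Function.Injective j := by
    intro a b hab
    have := congrArg Subtype.val hab
    exact Subtype.ext (f.symm.injective this)
  have hj' : Function.Bijective j := by
    refine (Nat.bijective_iff_injective_and_card j).2 ⟨hj, ?_⟩
    apply le_antisymm (Nat.card_le_card_of_injective j hj)
    rw [hfix]
    exact card_pow_eq_self
  intro v
  refine ⟨fun hv => ?_, himp v⟩
  obtain ⟨x, hx⟩ := hj'.2 ⟨v, hv⟩
  have hx' : f.symm x = v := congrArg Subtype.val hx
  rw [← hx', AddEquiv.apply_symm_apply]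
  exact x.2

/-! ### The reducible case -/

theorem conj_forward {S : Set (End (ZMod p) V)} (w : V ≃ₗ[ZMod p] V)
    (hwS : ∀ s ∈ S, (w : End (ZMod p) V) * s * (w.symm : End (ZMod p) V) ∈ S) (n : ℕ) :
    ∀ s ∈ S, ∃ s' ∈ S, ∀ v, (w ^ n) (s v) = s' ((w ^ n) v) := by
  induction n with
  | zero => intro s hs; exact ⟨s, hs, fun v => rfl⟩
  | succ n ih =>
    intro s hs
    obtain ⟨s', hs', h⟩ := ih s hs
    refine ⟨_, hwS s' hs', fun v => ?_⟩
    rw [pow_succ']
    show w ((w ^ n) (s v)) = w (s' (w.symm (w ((w ^ n) v))))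
    rw [h, LinearEquiv.symm_apply_apply]

theorem conj_backward {S : Set (End (ZMod p) V)} (w : V ≃ₗ[ZMod p] V)
    (hwS : ∀ s ∈ S, (w : End (ZMod p) V) * s * (w.symm : End (ZMod p) V) ∈ S) {q : ℕ}
    (hq : q ≠ 0) (hwq : w ^ q = 1) (n : ℕ) :
    ∀ s ∈ S, ∃ s' ∈ S, ∀ v, (w ^ n) (s' v) = s ((w ^ n) v) := by
  intro s hs
  -- n * (q - 1) + n = n * q
  obtain ⟨s', hs', h⟩ := conj_forward w hwS (n * (q - 1)) s hs
  have key : w ^ n * w ^ (n * (q - 1)) = 1 := by
    rw [← pow_add]
    have : n + n * (q - 1) = q * n := by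
      obtain ⟨m, rfl⟩ : ∃ m, q = m + 1 := ⟨q - 1, by omega⟩
      simp; ring
    rw [this, pow_mul, hwq, one_pow]
  have key' : w ^ (n * (q - 1)) * w ^ n = 1 := by
    rw [← pow_add]
    have : n * (q - 1) + n = q * n := by
      obtain ⟨m, rfl⟩ : ∃ m, q = m + 1 := ⟨q - 1, by omega⟩
      simp; ring
    rw [this, pow_mul, hwq, one_pow]
  refine ⟨s', hs', fun v => ?_⟩
  have h1 := h ((w ^ n) v)
  have h2 : (w ^ (n * (q - 1))) ((w ^ n) v) = v := by
    have := congrArg (fun e : V ≃ₗ[ZMod p] V => e v) key'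
    exact this
  rw [h2] at h1
  rw [← h1]
  exact congrArg (fun e : V ≃ₗ[ZMod p] V => e (s ((w ^ n) v))) key

/-- **Reducible case** of (9.7), linear form. -/
theorem reducible_linear [Finite V] {S : Set (End (ZMod p) V)}
    {q : ℕ} (hq : q.Prime) (hrank : finrank (ZMod p) V = q) (w : V ≃ₗ[ZMod p] V)
    (hwS : ∀ s ∈ S, (w : End (ZMod p) V) * s * (w.symm : End (ZMod p) V) ∈ S)
    (hwq : w ^ q = 1)
    (hirrW : ∀ X : Submodule (ZMod p) V, Inv S X → (∀ v ∈ X, w v ∈ X) → X = ⊥ ∨ X = ⊤)
    (hred : ∃ X : Submodule (ZMod p) V, Inv S X ∧ X ≠ ⊥ ∧ X ≠ ⊤) :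
    ∃ (v₁ : V) (b : Basis (Fin q) (ZMod p) V), (∀ i, b i = (w ^ (i : ℕ)) v₁) ∧
      ∀ s ∈ S, ∃ c : ZMod p, s v₁ = c • v₁ := by
  classical
  haveI : Finite (Submodule (ZMod p) V) :=
    Finite.of_injective (fun X : Submodule (ZMod p) V => (X : Set V)) SetLike.coe_injective
  -- a minimal invariant subspace
  obtain ⟨X, hX, hmin⟩ := exists_minimal_of_wellFoundedLT
    (P := fun X : Submodule (ZMod p) V => Inv S X ∧ X ≠ ⊥ ∧ X ≠ ⊤) hred
  obtain ⟨hXi, hX0, hX1⟩ := hX
  have hmin' : ∀ Y : Submodule (ZMod p) V, Inv S Y → Y ≤ X → Y = ⊥ ∨ Y = X := by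
    intro Y hY hYX
    by_cases h : Y = ⊥
    · exact Or.inl h
    · right
      apply le_antisymm hYX
      refine hmin ⟨hY, h, fun h' => hX1 ?_⟩ hYX
      rw [h'] at hYX
      exact top_le_iff.1 hYX
  -- the translates
  let Xi : ℕ → Submodule (ZMod p) V := fun i => X.map ((w ^ i : V ≃ₗ[ZMod p] V) : V →ₗ[ZMod p] V)
  have hXi_mem : ∀ i v, v ∈ Xi i ↔ ∃ x ∈ X, (w ^ i) x = v := by
    intro i v
    exact Submodule.mem_map
  have hXi_inv : ∀ i, Inv S (Xi i) := by
    intro i s hs v hv
    obtain ⟨x, hx, rfl⟩ := (hXi_mem i v).1 hv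
    obtain ⟨s', hs', h⟩ := conj_backward w hwS hq.ne_zero hwq i s hs
    rw [← h]
    exact (hXi_mem i _).2 ⟨_, hXi s' hs' x hx, rfl⟩
  have hXi_min : ∀ i (Y : Submodule (ZMod p) V), Inv S Y → Y ≤ Xi i → Y = ⊥ ∨ Y = Xi i := by
    intro i Y hY hYX
    let Z : Submodule (ZMod p) V := Y.comap ((w ^ i : V ≃ₗ[ZMod p] V) : V →ₗ[ZMod p] V)
    have hZ : ∀ v, v ∈ Z ↔ (w ^ i) v ∈ Y := fun v => Submodule.mem_comap
    have hZi : Inv S Z := by
      intro s hs v hv
      rw [hZ] at hv ⊢
      obtain ⟨s', hs', h⟩ := conj_forward w hwS i s hs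
      rw [h]
      exact hY s' hs' _ hv
    have hZX : Z ≤ X := by
      intro v hv
      obtain ⟨x, hx, hxv⟩ := (hXi_mem i _).1 (hYX ((hZ v).1 hv))
      have : x = v := (w ^ i).injective hxv
      rwa [← this]
    rcases hmin' Z hZi hZX with h | h
    · left
      rw [eq_bot_iff]
      intro y hy
      have h1 : (w ^ i).symm y ∈ Z := by
        rw [hZ, LinearEquiv.apply_symm_apply]
        exact hy
      rw [h, Submodule.mem_bot, LinearEquiv.symm_apply_eq, map_zero] at h1
      rw [h1]; exact Submodule.zero_mem _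
    · right
      apply le_antisymm hYX
      intro y hy
      obtain ⟨x, hx, rfl⟩ := (hXi_mem i _).1 hy
      rw [← h] at hx
      exact (hZ x).1 hx
  have hXi_rank : ∀ i, finrank (ZMod p) (Xi i) = finrank (ZMod p) X := fun i =>
    LinearEquiv.finrank_map_eq (w ^ i) X
  let W : ℕ → Submodule (ZMod p) V := fun k => ⨆ i ∈ Finset.range k, Xi i
  have hW_succ : ∀ k, W (k + 1) = W k ⊔ Xi k := by
    intro k
    show (⨆ i ∈ Finset.range (k + 1), Xi i) = (⨆ i ∈ Finset.range k, Xi i) ⊔ Xi k
    rw [Finset.range_add_one, Finset.iSup_insert, sup_comm]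
  have hW_inv : ∀ k, Inv S (W k) := by
    intro k
    induction k with
    | zero =>
      intro s _ v hv
      have h0 : W 0 = ⊥ := by simp [W]
      rw [h0, Submodule.mem_bot] at hv ⊢
      rw [hv, map_zero]
    | succ k ih =>
      intro s hs v hv
      rw [hW_succ] at hv ⊢
      obtain ⟨y, hy, z, hz, rfl⟩ := Submodule.mem_sup.1 hv
      rw [map_add]
      exact Submodule.add_mem_sup (ih s hs y hy) (hXi_inv k s hs z hz)
  have hdvd : ∀ k, finrank (ZMod p) X ∣ finrank (ZMod p) (W k) := by
    intro k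
    induction k with
    | zero =>
      have h0 : W 0 = ⊥ := by simp [W]
      rw [h0, finrank_bot]
      exact dvd_zero _
    | succ k ih =>
      have h1 := Submodule.finrank_sup_add_finrank_inf_eq (W k) (Xi k)
      rw [← hW_succ, hXi_rank] at h1
      have hinf : Inv S (W k ⊓ Xi k) := fun s hs v hv =>
        ⟨hW_inv k s hs v hv.1, hXi_inv k s hs v hv.2⟩
      rcases hXi_min k _ hinf inf_le_right with h | h
      · rw [h, finrank_bot, add_zero] at h1
        rw [h1]
        exact dvd_add ih dvd_rfl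
      · rw [h, hXi_rank] at h1
        have : finrank (ZMod p) (W (k + 1)) = finrank (ZMod p) (W k) := by omega
        rw [this]; exact ih
  -- W q is everything
  have hle : ∀ i, i < q → Xi i ≤ W q := by
    intro i hi
    exact le_iSup₂_of_le i (Finset.mem_range.2 hi) le_rfl
  have hWw : ∀ v ∈ W q, w v ∈ W q := by
    have : W q ≤ (W q).comap (w : V →ₗ[ZMod p] V) := by
      show (⨆ i ∈ Finset.range q, Xi i) ≤ _
      refine iSup₂_le fun i hi => ?_
      intro v hv
      rw [Submodule.mem_comap]
      obtain ⟨x, hx, rfl⟩ := (hXi_mem i _).1 hv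
      rw [Finset.mem_range] at hi
      by_cases hiq : i + 1 < q
      · exact hle (i + 1) hiq ((hXi_mem _ _).2 ⟨x, hx, by rw [pow_succ']; rfl⟩)
      · have hiq' : i + 1 = q := by omega
        apply hle 0 hq.pos
        refine (hXi_mem _ _).2 ⟨x, hx, ?_⟩
        have h2 : (w ^ (i + 1)) x = (w ^ 0) x := by rw [hiq', hwq, pow_zero]
        rw [← h2, pow_succ']
        exact rfl
    exact fun v hv => this hv
  have hWq : W q = ⊤ := by
    rcases hirrW (W q) (hW_inv q) hWw with h | h
    · exfalso
      apply hX0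
      rw [eq_bot_iff, ← h]
      have h0 : Xi 0 = X := by
        ext v
        rw [hXi_mem]
        constructor
        · rintro ⟨x, hx, rfl⟩; exact hx
        · intro hv; exact ⟨v, hv, rfl⟩
      rw [← h0]
      exact hle 0 hq.pos
    · exact h
  -- dimension one
  have hd : finrank (ZMod p) X ∣ q := by
    have := hdvd q
    rwa [hWq, finrank_top, hrank] at this
  have hd1 : finrank (ZMod p) X = 1 := by
    rcases (Nat.dvd_prime hq).1 hd with h | h
    · exact h
    · exfalso
      apply hX1
      apply Submodule.eq_top_of_finrank_eq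
      rw [h, hrank]
  obtain ⟨x, hx0, hx⟩ := finrank_eq_one_iff'.1 hd1
  have hxspan : ∀ v ∈ X, ∃ c : ZMod p, c • (x : V) = v := by
    intro v hv
    obtain ⟨c, hc⟩ := hx ⟨v, hv⟩
    exact ⟨c, congrArg Subtype.val hc⟩
  have hspan : ⊤ ≤ Submodule.span (ZMod p) (Set.range fun i : Fin q => (w ^ (i : ℕ)) (x : V)) := by
    rw [← hWq]
    show (⨆ i ∈ Finset.range q, Xi i) ≤ _
    refine iSup₂_le fun i hi => ?_
    intro v hv
    obtain ⟨y, hy, rfl⟩ := (hXi_mem i _).1 hv
    obtain ⟨c, rfl⟩ := hxspan y hy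
    rw [map_smul]
    exact Submodule.smul_mem _ _ (Submodule.subset_span ⟨⟨i, Finset.mem_range.1 hi⟩, rfl⟩)
  let b := basisOfTopLeSpanOfCardEqFinrank (fun i : Fin q => (w ^ (i : ℕ)) (x : V)) hspan
    (by rw [Fintype.card_fin, hrank])
  refine ⟨x, b, fun i => ?_, ?_⟩
  · rw [coe_basisOfTopLeSpanOfCardEqFinrank]
  · intro s hs
    obtain ⟨c, hc⟩ := hxspan _ (hXi s hs x x.2)
    exact ⟨c, hc.symm⟩

end Cfsg.Agent.OddOrderCharacters.PF9.SevenLin
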