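import Mathlib

/-!
# An elementary abelian section `H / H₀` as a vector space with conjugation action
-/

set_option autoImplicit false

namespace Cfsg.Agent.OddOrderCharacters.PF9.SectionModule

universe u

variable {L : Type u} [Group L]

/-- an elementary abelian section is the image of `H` in a vector space over `ZMod p` -/
theorem exists_module (p : ℕ) [Fact p.Prime] (H H₀ : Subgroup L)
    (hn : ∀ h ∈ H, ∀ k ∈ H₀, h * k * h⁻¹ ∈ H₀)
    (hab : ∀ a ∈ H, ∀ b ∈ H, a * b * a⁻¹ * b⁻¹ ∈ H₀) (hexp : ∀ a ∈ H, a ^ p ∈ H₀) :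
    ∃ (V : Type u) (_ : AddCommGroup V) (_ : Module (ZMod p) V) (π : ↥H → V),
      Function.Surjective π ∧ (∀ a b : ↥H, π (a * b) = π a + π b) ∧
      (∀ a : ↥H, π a = 0 ↔ (a : L) ∈ H₀) ∧ Nat.card V = H₀.relIndex H := by
  have hN : (H₀.subgroupOf H).Normal := by
    refine ⟨fun n hn' g => ?_⟩
    rw [Subgroup.mem_subgroupOf] at hn' ⊢
    exact hn g g.2 n hn'
  have hcomm : ∀ a b : ↥H ⧸ H₀.subgroupOf H, a * b = b * a := by
    intro a b
    induction a using QuotientGroup.induction_on with | H a => ?_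
    induction b using QuotientGroup.induction_on with | H b => ?_
    rw [← QuotientGroup.mk_mul, ← QuotientGroup.mk_mul, QuotientGroup.eq, Subgroup.mem_subgroupOf]
    have := hab b⁻¹ (H.inv_mem b.2) a⁻¹ (H.inv_mem a.2)
    simpa [mul_assoc] using this
  let _ : CommGroup (↥H ⧸ H₀.subgroupOf H) := { mul_comm := hcomm }
  let V := Additive (↥H ⧸ H₀.subgroupOf H)
  have hp : ∀ v : V, p • v = 0 := by
    intro v
    change (Additive.toMul v) ^ p = 1
    induction (Additive.toMul v) using QuotientGroup.induction_on with | H a => ?_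
    rw [← QuotientGroup.mk_pow, QuotientGroup.eq_one_iff, Subgroup.mem_subgroupOf]
    exact hexp a a.2
  refine ⟨V, inferInstance, AddCommGroup.zmodModule hp,
    fun a => Additive.ofMul (QuotientGroup.mk a), ?_, ?_, ?_, rfl⟩
  · intro v
    obtain ⟨a, ha⟩ := QuotientGroup.mk_surjective (Additive.toMul v)
    exact ⟨a, congrArg Additive.ofMul ha⟩
  · intro a b
    rfl
  · intro a
    change (QuotientGroup.mk a : ↥H ⧸ H₀.subgroupOf H) = 1 ↔ _
    rw [QuotientGroup.eq_one_iff, Subgroup.mem_subgroupOf]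

section rep

variable {p : ℕ} [Fact p.Prime] {H H₀ : Subgroup L}
  {V : Type u} [AddCommGroup V] [Module (ZMod p) V] {π : ↥H → V}
  (hsurj : Function.Surjective π) (hadd : ∀ a b : ↥H, π (a * b) = π a + π b)
  (hker : ∀ a : ↥H, π a = 0 ↔ (a : L) ∈ H₀)
  (X : Subgroup L) (hXH : ∀ x ∈ X, ∀ h ∈ H, x * h * x⁻¹ ∈ H)
  (hXH₀ : ∀ x ∈ X, ∀ h ∈ H₀, x * h * x⁻¹ ∈ H₀)

include hadd in
theorem pi_one : π 1 = 0 := by
  have := hadd 1 1
  rw [mul_one] at this
  exact left_eq_add.1 this

include hadd in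
theorem pi_inv (a : ↥H) : π a⁻¹ = -π a := by
  have h := hadd a⁻¹ a
  rw [inv_mul_cancel, pi_one hadd] at h
  exact eq_neg_of_add_eq_zero_left h.symm

include hadd hker in
theorem pi_eq_iff (a b : ↥H) : π a = π b ↔ (a : L)⁻¹ * b ∈ H₀ := by
  have h := hker (a⁻¹ * b)
  rw [hadd, pi_inv hadd] at h
  rw [← sub_eq_zero, ← neg_eq_zero, neg_sub, sub_eq_add_neg, add_comm]
  exact h

include hsurj hadd hker hXH hXH₀ in
/-- the conjugation action on the section -/
theorem exists_rep : ∃ ρ : ↥X →* Module.End (ZMod p) V,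
    ∀ (x : ↥X) (h : ↥H), ρ x (π h) = π ⟨x * h * (x : L)⁻¹, hXH x x.2 h h.2⟩ := by
  let s : V → ↥H := Function.surjInv hsurj
  have hs : ∀ v, π (s v) = v := Function.surjInv_eq hsurj
  let f : ↥X → V → V := fun x v => π ⟨x * (s v) * (x : L)⁻¹, hXH x x.2 _ (s v).2⟩
  have hf : ∀ (x : ↥X) (h : ↥H), f x (π h) = π ⟨x * h * (x : L)⁻¹, hXH x x.2 h h.2⟩ := by
    intro x h
    change π _ = π _
    rw [pi_eq_iff hadd hker]
    have h1 : ((s (π h) : ↥H) : L)⁻¹ * h ∈ H₀ := (pi_eq_iff hadd hker _ _).1 (hs (π h))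
    have h2 := hXH₀ x x.2 _ h1
    simpa [mul_assoc] using h2
  have hfadd : ∀ x v w, f x (v + w) = f x v + f x w := by
    intro x v w
    obtain ⟨a, rfl⟩ := hsurj v
    obtain ⟨b, rfl⟩ := hsurj w
    rw [← hadd, hf, hf, hf, ← hadd]
    congr 1
    ext
    simp [mul_assoc]
  refine ⟨
    { toFun := fun x => AddMonoidHom.toZModLinearMap p
        { toFun := f x
          map_zero' := by
            have := hfadd x 0 0
            rw [add_zero] at this
            exact left_eq_add.1 this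
          map_add' := hfadd x }
      map_one' := ?_
      map_mul' := ?_ }, fun x h => hf x h⟩
  · ext v
    obtain ⟨a, rfl⟩ := hsurj v
    change f 1 (π a) = π a
    rw [hf]
    congr 1
    ext
    simp
  · intro x y
    ext v
    obtain ⟨a, rfl⟩ := hsurj v
    change f (x * y) (π a) = f x (f y (π a))
    rw [hf y a, hf x, hf (x * y)]
    congr 1
    ext
    simp [mul_assoc]

include hsurj hadd hker in
/-- the conjugation action of the whole group on the section -/
theorem exists_rep_normal (hH : H.Normal) (hH₀ : H₀.Normal) :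
    ∃ ρ : L →* Module.End (ZMod p) V,
      ∀ (x : L) (h : ↥H), ρ x (π h) = π ⟨x * h * x⁻¹, hH.conj_mem h h.2 x⟩ := by
  obtain ⟨ρ, hρ⟩ := exists_rep (p := p) hsurj hadd hker (⊤ : Subgroup L)
    (fun x _ h hh => hH.conj_mem h hh x) (fun x _ h hh => hH₀.conj_mem h hh x)
  exact ⟨ρ.comp (Subgroup.topEquiv.symm : L ≃* (⊤ : Subgroup L)).toMonoidHom,
    fun x h => hρ ⟨x, trivial⟩ h⟩

include hadd in
/-- the subgroup of `H` corresponding to a subspace -/
theorem exists_subgroup (S : Submodule (ZMod p) V) :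
    ∃ K : Subgroup L, K ≤ H ∧ ∀ h : ↥H, (h : L) ∈ K ↔ π h ∈ S := by
  let K' : Subgroup ↥H :=
    { carrier := {h | π h ∈ S}
      mul_mem' := fun {a b} ha hb => by
        change π (a * b) ∈ S
        rw [hadd]; exact S.add_mem ha hb
      one_mem' := by change π 1 ∈ S; rw [pi_one hadd]; exact S.zero_mem
      inv_mem' := fun {a} ha => by
        change π a⁻¹ ∈ S
        rw [pi_inv hadd]; exact S.neg_mem ha }
  refine ⟨K'.map H.subtype, Subgroup.map_subtype_le K', fun h => ?_⟩
  constructor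
  · rintro ⟨k, hk, hkh⟩
    have : k = h := Subtype.ext hkh
    rw [← this]; exact hk
  · intro h'
    exact ⟨h, h', rfl⟩

include hadd hker in
/-- the subspace corresponding to a subgroup containing `H₀` -/
theorem exists_submodule (K : Subgroup L) (hK0 : H₀ ≤ K) :
    ∃ S : Submodule (ZMod p) V, ∀ h : ↥H, π h ∈ S ↔ (h : L) ∈ K := by
  let A : AddSubgroup V :=
    { carrier := {v | ∃ h : ↥H, (h : L) ∈ K ∧ π h = v}
      add_mem' := by
        rintro _ _ ⟨a, ha, rfl⟩ ⟨b, hb, rfl⟩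
        exact ⟨a * b, K.mul_mem ha hb, hadd a b⟩
      zero_mem' := ⟨1, K.one_mem, pi_one hadd⟩
      neg_mem' := by
        rintro _ ⟨a, ha, rfl⟩
        exact ⟨a⁻¹, K.inv_mem ha, pi_inv hadd a⟩ }
  refine ⟨AddSubgroup.toZModSubmodule p A, fun h => ?_⟩
  constructor
  · rintro ⟨k, hk, hkh⟩
    have h1 := (pi_eq_iff hadd hker k h).1 hkh
    have h2 := K.mul_mem hk (hK0 h1)
    simpa using h2
  · intro hh
    exact ⟨h, hh, rfl⟩

end rep

end Cfsg.Agent.OddOrderCharacters.PF9.SectionModule
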