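import Cfsg.Agent.OddOrderCharacters.PF9.Defs
import Cfsg.Agent.OddOrderCharacters.TypeExclusive
import Cfsg.Agent.OddOrderLocal.TypeP
import Cfsg.Agent.S1545

/-!
# Peterfalvi (9.3): a subgroup `M` of type P with `U ≠ 1` and `|W₁|` a prime satisfies the hypothesis `PF9.Defs.Hyp`

* `inf_centralizer_W₁`: `C_H(W₁) = W₂`, `H = M_F`.
* `card_formula`: `|C_H(U W₁)| ^ |W₁| * |H| = |W₂| ^ |W₁| * |C_H(U)|` (Wielandt).
* `inf_centralizer_U_of_typeII`: `C_H(U) = 1` for type II.
* `cent_eq_of_prime`, `cent_eq_of_typeII`: `C_H(U W₁) = 1` if `|W₂|` is a prime, or if `M` is of type II.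
* `hyp_of_typeP`: the hypothesis `Hyp` for the subgroups of `↥M`.
-/

set_option autoImplicit false

namespace Cfsg.Agent.OddOrderCharacters.PF9.Three

open Subgroup Cfsg Cfsg.Agent.OddOrderLocal Cfsg.Agent.OddOrderLocal.TypeP
  Cfsg.Agent.OddOrderLocal.FittingHall Cfsg.Agent.OddOrderCharacters.PF9.Defs

universe u

variable {G : Type u} [Group G]

section typeP

variable {M W₁ U W₂ : Subgroup G}

theorem W₂_le_kernel (hP : IsTypePWith M W₁ U W₂) : W₂ ≤ fittingHallOf M :=
  hP.W₂_le.trans inf_le_left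

/-- `C_H(w) = W₂` for `1 ≠ w ∈ W₁`. -/
theorem inf_centralizer_singleton (hP : IsTypePWith M W₁ U W₂) {w : G} (hw : w ∈ W₁) (hw1 : w ≠ 1) :
    fittingHallOf M ⊓ centralizer ({w} : Set G) = W₂ := by
  have h := hP.W₂_centralizer w hw hw1
  apply le_antisymm
  · exact (inf_le_inf_right _ (kernel_le_derived hP)).trans h.le
  · exact le_inf (W₂_le_kernel hP) (h.ge.trans inf_le_right)

/-- `C_H(W₁) = W₂`. -/
theorem inf_centralizer_W₁ (hP : IsTypePWith M W₁ U W₂) :
    fittingHallOf M ⊓ centralizer (W₁ : Set G) = W₂ := by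
  obtain ⟨w, hw1⟩ := Subgroup.ne_bot_iff_exists_ne_one.mp hP.W₁_ne
  have hw2 : (w : G) ≠ 1 := fun h => hw1 (Subtype.ext h)
  apply le_antisymm
  · rw [← inf_centralizer_singleton hP w.2 hw2]
    refine inf_le_inf_left _ (centralizer_le ?_)
    rw [Set.singleton_subset_iff]
    exact w.2
  · refine le_inf (W₂_le_kernel hP) ?_
    intro y hy
    rw [mem_centralizer_iff]
    intro v hv
    exact hP.selfNormalizing.2.2.2.1 v hv y hy

/-- `W₁` acts without fixed points on `U`. -/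
theorem U_fpf (hP : IsTypePWith M W₁ U W₂) :
    ∀ w ∈ W₁, w ≠ 1 → ∀ x ∈ U, w * x = x * w → x = 1 := by
  intro w hw hw1 x hx hwx
  have h1 : x ∈ W₂ := by
    rw [← hP.W₂_centralizer w hw hw1]
    refine Subgroup.mem_inf.2 ⟨U_le_derived hP hx, ?_⟩
    rw [mem_centralizer_iff]
    intro y hy
    rw [Set.mem_singleton_iff.1 hy]
    exact hwx
  have h2 : x ∈ fittingHallOf M ⊓ U := ⟨W₂_le_kernel hP h1, hx⟩
  rw [hP.U_compl.2.2.1] at h2
  exact h2

theorem U_inf_W₁ (hP : IsTypePWith M W₁ U W₂) : U ⊓ W₁ = ⊥ := by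
  rw [eq_bot_iff, ← hP.W₁_compl.2.2.1]
  exact inf_le_inf_right _ (U_le_derived hP)

theorem conj_mem_U (hP : IsTypePWith M W₁ U W₂) : ∀ w ∈ W₁, ∀ x ∈ U, w * x * w⁻¹ ∈ U := by
  intro w hw x hx
  exact (mem_normalizer_iff.1 (hP.U_normal hw) x).1 hx

theorem isComplIn_U_W₁ (hP : IsTypePWith M W₁ U W₂) : IsComplIn U W₁ (U ⊔ W₁) := by
  refine ⟨le_sup_left, le_sup_right, U_inf_W₁ hP, ?_⟩
  intro m hm
  have h2 := coe_mul_of_right_le_normalizer_left U W₁ hP.U_normal
  have h3 : m ∈ ((U ⊔ W₁ : Subgroup G) : Set G) := hm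
  rw [h2] at h3
  obtain ⟨a, ha, b, hb, hab⟩ := h3
  exact ⟨a, ha, b, hb, hab.symm⟩

theorem card_sup (hP : IsTypePWith M W₁ U W₂) :
    Nat.card ↥(U ⊔ W₁) = Nat.card U * Nat.card W₁ :=
  card_of_isComplIn (isComplIn_U_W₁ hP)

theorem sup_le (hP : IsTypePWith M W₁ U W₂) : U ⊔ W₁ ≤ M :=
  _root_.sup_le (U_le hP) (W₁_le hP)

theorem coprime_kernel_sup [Finite M] (hP : IsTypePWith M W₁ U W₂) :
    (Nat.card (fittingHallOf M)).Coprime (Nat.card ↥(U ⊔ W₁)) := by
  rw [card_sup hP]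
  exact Nat.Coprime.mul_right (coprime_kernel_U hP) (coprime_kernel_W₁ hP)

/-- Wielandt's formula for `U W₁` acting on `H = M_F`. -/
theorem card_formula [Finite G] (hP : IsTypePWith M W₁ U W₂) (hU : U ≠ ⊥) :
    Nat.card ↥(fittingHallOf M ⊓ centralizer ((U ⊔ W₁ : Subgroup G) : Set G)) ^ Nat.card W₁ *
        Nat.card (fittingHallOf M) =
      Nat.card W₂ ^ Nat.card W₁ * Nat.card ↥(fittingHallOf M ⊓ centralizer (U : Set G)) := by
  have hn : Group.IsNilpotent (fittingHallOf M) := fittingHallOf_isNilpotent M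
  have h1 := Cfsg.Agent.S1545.result U W₁ (fittingHallOf M) hU hP.W₁_ne (U_inf_W₁ hP)
    (conj_mem_U hP) (U_fpf hP)
    (fun x hx h hh => (mem_normalizer_iff.1 (le_normalizer_fittingHallOf M (sup_le hP hx)) h).1 hh)
    (Subgroup.disjoint_of_coprime_natCard (coprime_kernel_sup hP)).eq_bot
    inferInstance (coprime_kernel_sup hP)
  rw [inf_centralizer_W₁ hP] at h1
  exact h1

theorem cent_sup_le (hP : IsTypePWith M W₁ U W₂) :
    fittingHallOf M ⊓ centralizer ((U ⊔ W₁ : Subgroup G) : Set G) ≤ W₂ := by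
  rw [← inf_centralizer_W₁ hP]
  exact inf_le_inf_left _ (centralizer_le (SetLike.coe_subset_coe.2 le_sup_right))

theorem cent_sup_le_cent (M W₁ U : Subgroup G) :
    fittingHallOf M ⊓ centralizer ((U ⊔ W₁ : Subgroup G) : Set G) ≤
      fittingHallOf M ⊓ centralizer (U : Set G) :=
  inf_le_inf_left _ (centralizer_le (SetLike.coe_subset_coe.2 le_sup_left))

/-- `C_H(U W₁) = 1` if the order of `W₂` is a prime and `U ≠ 1`. -/
theorem cent_eq_of_prime [Finite G] (hP : IsTypePWith M W₁ U W₂) (hU : U ≠ ⊥)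
    (hW₂ : (Nat.card W₂).Prime) :
    fittingHallOf M ⊓ centralizer ((U ⊔ W₁ : Subgroup G) : Set G) = ⊥ := by
  by_contra hne
  have h1 : fittingHallOf M ⊓ centralizer ((U ⊔ W₁ : Subgroup G) : Set G) = W₂ := by
    refine Subgroup.eq_of_le_of_card_ge (cent_sup_le hP) ?_
    have h2 := card_dvd_of_le (cent_sup_le hP)
    rcases (Nat.dvd_prime hW₂).1 h2 with h3 | h3
    · exact absurd (Subgroup.card_eq_one.1 h3) hne
    · exact h3.ge
  have h2 := card_formula hP hU
  rw [h1] at h2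
  have h3 : Nat.card (fittingHallOf M) = Nat.card ↥(fittingHallOf M ⊓ centralizer (U : Set G)) :=
    Nat.eq_of_mul_eq_mul_left (pow_pos Nat.card_pos _) h2
  have h4 : fittingHallOf M ⊓ centralizer (U : Set G) = fittingHallOf M :=
    Subgroup.eq_of_le_of_card_ge inf_le_left h3.le
  have h5 : U ≤ centralizer (fittingHallOf M : Set G) := by
    rw [le_centralizer_iff]
    exact inf_eq_left.1 h4
  exact hU (U_eq_bot_of_le_centralizer hP h5)

/-- A complement `U` of `H = M_F` in `M' = ⁅M, M⁆` has `C_H(U) = 1` if `M'` is of Frobenius type with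
`(M')_F = M_F`. -/
theorem inf_centralizer_U_of_typeF [Finite G] (hP : IsTypePWith M W₁ U W₂)
    (hF : IsOfTypeF ↥⁅M, M⁆) (hEq : fittingHallOf ⁅M, M⁆ = fittingHallOf M) :
    fittingHallOf M ⊓ centralizer (U : Set G) = ⊥ := by
  obtain ⟨-, -, -, -, V, hV1, hV, -, V₀, hV₀V, hexp, hfree⟩ := hF
  -- the complement `V`, as a subgroup of `G`
  set V' : Subgroup G := V.map (⁅M, M⁆ : Subgroup G).subtype with hV'
  have hV'le : V' ≤ ⁅M, M⁆ := map_subtype_le _
  have hV₀ne : ∃ v ∈ V₀, v ≠ 1 := by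
    by_contra hcon
    push Not at hcon
    have h1 : Monoid.exponent V₀ = 1 := by
      rw [Monoid.exp_eq_one_iff]
      exact ⟨fun a b => Subtype.ext ((hcon a a.2).trans (hcon b b.2).symm)⟩
    rw [hexp, Monoid.exp_eq_one_iff] at h1
    have := h1
    exact hV1 (Subgroup.eq_bot_of_subsingleton V)
  obtain ⟨v, hv, hv1⟩ := hV₀ne
  have hHcard : Nat.card (fittingHall ↥⁅M, M⁆) = Nat.card (fittingHallOf M) := by
    rw [← card_fittingHallOf, hEq]
  have hVcard : Nat.card V' = Nat.card U := by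
    have h1 : Nat.card V' = Nat.card V := card_map_of_injective (Subgroup.subtype_injective _)
    have h2 := hV.card_mul_card
    have h3 := card_of_isComplIn hP.U_compl
    rw [hHcard, h3] at h2
    rw [h1]
    exact Nat.eq_of_mul_eq_mul_left Nat.card_pos h2
  have hUn := hP.U_nilpotent
  have h2 : Group.IsSolvable U := inferInstance
  obtain ⟨d, hd, hdU⟩ := Cfsg.Agent.S0030.exists_conj_eq U (fittingHallOf M) V'
    ((U_le hP).trans (le_normalizer_fittingHallOf M)) (coprime_kernel_U hP).symm (Or.inl h2)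
    (hV'le.trans (sup_of_isComplIn hP.U_compl).ge) hVcard
  rw [eq_bot_iff]
  intro x hx
  have hx1 : x ∈ fittingHallOf M := hx.1
  have hx2 : x ∈ centralizer (U : Set G) := hx.2
  rw [mem_centralizer_iff] at hx2
  -- `d x d⁻¹` is centralised by `v`
  have hdx : d * x * d⁻¹ ∈ fittingHallOf M := mul_mem (mul_mem hd hx1) (inv_mem hd)
  have hdx' : d * x * d⁻¹ ∈ fittingHallOf ⁅M, M⁆ := by rw [hEq]; exact hdx
  obtain ⟨y, hy, hyx⟩ := hdx'
  have hvV' : (v : G) ∈ V' := ⟨v, hV₀V hv, rfl⟩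
  rw [← hdU, mem_smul_pointwise_iff_exists] at hvV'
  obtain ⟨w, hw, hwv⟩ := hvV'
  have hwv' : d * w * d⁻¹ = (v : G) := hwv
  have hyx' : (y : G) = d * x * d⁻¹ := hyx
  have h3 : v * y = y * v := by
    apply Subtype.ext
    rw [Subgroup.coe_mul, Subgroup.coe_mul, hyx', ← hwv']
    have h4 := hx2 w hw
    calc d * w * d⁻¹ * (d * x * d⁻¹) = d * (w * x) * d⁻¹ := by group
      _ = d * (x * w) * d⁻¹ := by rw [h4]
      _ = d * x * d⁻¹ * (d * w * d⁻¹) := by group
  have h4 := hfree v hv hv1 y hy h3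
  rw [h4] at hyx'
  rw [Subgroup.mem_bot]
  have h5 : x = d⁻¹ * (d * x * d⁻¹) * d := by group
  rw [h5, ← hyx']
  simp

/-- `C_H(U) = 1` if `M` is of type II, for every choice of type P data. -/
theorem inf_centralizer_U_of_typeII [Finite G] (hP : IsTypePWith M W₁ U W₂) (hII : IsOfTypeII M) :
    fittingHallOf M ⊓ centralizer (U : Set G) = ⊥ := by
  obtain ⟨-, -, -, -, -, -, -, -, -, hF, hEq⟩ := hII
  exact inf_centralizer_U_of_typeF hP hF hEq

/-- `C_H(U W₁) = 1` if `M` is of type II. -/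
theorem cent_eq_of_typeII [Finite G] (hP : IsTypePWith M W₁ U W₂) (hII : IsOfTypeII M) :
    fittingHallOf M ⊓ centralizer ((U ⊔ W₁ : Subgroup G) : Set G) = ⊥ := by
  rw [eq_bot_iff, ← inf_centralizer_U_of_typeII hP hII]
  exact cent_sup_le_cent M W₁ U

/-- Peterfalvi (9.3): the order of `H = M_F`. -/
theorem card_kernel [Finite G] (hP : IsTypePWith M W₁ U W₂) (hU : U ≠ ⊥)
    (hc : fittingHallOf M ⊓ centralizer ((U ⊔ W₁ : Subgroup G) : Set G) = ⊥) :
    Nat.card (fittingHallOf M) =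
      Nat.card W₂ ^ Nat.card W₁ * Nat.card ↥(fittingHallOf M ⊓ centralizer (U : Set G)) := by
  have h := card_formula hP hU
  rw [hc, Subgroup.card_bot, one_pow, one_mul] at h
  exact h

/-- Peterfalvi (9.3), type II: `|H| = |W₂| ^ |W₁|`. -/
theorem card_kernel_of_typeII [Finite G] (hP : IsTypePWith M W₁ U W₂) (hU : U ≠ ⊥)
    (hII : IsOfTypeII M) : Nat.card (fittingHallOf M) = Nat.card W₂ ^ Nat.card W₁ := by
  have h := card_kernel hP hU (cent_eq_of_typeII hP hII)
  rw [inf_centralizer_U_of_typeII hP hII, Subgroup.card_bot, mul_one] at h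
  exact h

end typeP

/-! ### The hypothesis `Hyp` inside `↥M` -/

section hyp

variable {M W₁ U W₂ : Subgroup G}

theorem subgroupOf_commutator {A B M : Subgroup G} (hA : A ≤ M) (hB : B ≤ M) :
    ⁅A.subgroupOf M, B.subgroupOf M⁆ = (⁅A, B⁆ : Subgroup G).subgroupOf M := by
  apply Subgroup.map_injective M.subtype_injective
  have hAB : (⁅A, B⁆ : Subgroup G) ≤ M := by
    refine (commutator_mono hA hB).trans (commutator_le_self M)
  rw [map_commutator, map_subgroupOf_eq_of_le hA, map_subgroupOf_eq_of_le hB,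
    map_subgroupOf_eq_of_le hAB]

theorem card_subgroupOf {A M : Subgroup G} (hA : A ≤ M) :
    Nat.card ↥(A.subgroupOf M) = Nat.card A :=
  Nat.card_congr (subgroupOfEquivOfLe hA).toEquiv

theorem isNilpotent_subgroupOf {A M : Subgroup G} (hA : A ≤ M) (h : Group.IsNilpotent A) :
    Group.IsNilpotent ↥(A.subgroupOf M) :=
  Group.nilpotent_of_mulEquiv (subgroupOfEquivOfLe hA).symm

/-- Membership in the centraliser of `B` inside `M`. -/
theorem mem_centralizer_subgroupOf {B M : Subgroup G} (hB : B ≤ M) (x : ↥M) :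
    x ∈ centralizer ((B.subgroupOf M : Subgroup ↥M) : Set ↥M) ↔ (x : G) ∈ centralizer (B : Set G) := by
  rw [mem_centralizer_iff, mem_centralizer_iff]
  constructor
  · intro h b hb
    have := h ⟨b, hB hb⟩ hb
    exact congrArg Subtype.val this
  · intro h b hb
    exact Subtype.ext (h b hb)

theorem centralizer_subgroupOf {B M : Subgroup G} (hB : B ≤ M) :
    centralizer ((B.subgroupOf M : Subgroup ↥M) : Set ↥M) = (centralizer (B : Set G)).subgroupOf M := by
  ext x
  rw [mem_centralizer_subgroupOf hB, mem_subgroupOf]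

theorem subgroupOf_inf_eq_bot {A B M : Subgroup G} (h : A ⊓ B = ⊥) :
    A.subgroupOf M ⊓ B.subgroupOf M = ⊥ := by
  rw [eq_bot_iff]
  intro x hx
  have h1 : (x : G) ∈ A ⊓ B := ⟨hx.1, hx.2⟩
  rw [h, Subgroup.mem_bot] at h1
  rw [Subgroup.mem_bot]
  exact Subtype.ext h1

theorem subgroupOf_ne_bot {A M : Subgroup G} (hA : A ≤ M) (h : A ≠ ⊥) : A.subgroupOf M ≠ ⊥ := by
  intro h1
  rw [subgroupOf_eq_bot, disjoint_iff, inf_eq_left.2 hA] at h1
  exact h h1

/-- Peterfalvi (9.2), (9.3): type P data with `U ≠ 1`, `|W₁|` a prime and `C_H(U W₁) = 1` give the hypothesis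
`Hyp` for the corresponding subgroups of `↥M`. -/
theorem hyp_of_typeP [Finite G] (hodd : Odd (Nat.card M)) (hP : IsTypePWith M W₁ U W₂) (hU : U ≠ ⊥)
    (hW₁ : (Nat.card W₁).Prime)
    (hc : fittingHallOf M ⊓ centralizer ((U ⊔ W₁ : Subgroup G) : Set G) = ⊥) :
    Hyp ((⁅M, M⁆ : Subgroup G).subgroupOf M) ((fittingHallOf M).subgroupOf M) (U.subgroupOf M)
      (W₁.subgroupOf M) (W₂.subgroupOf M) where
  odd := hodd
  K_eq := by
    rw [← subgroupOf_sup (fittingHallOf_le M) (U_le hP), sup_of_isComplIn hP.U_compl]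
  K_normal := (normal_subgroupOf_iff_le_normalizer (derived_le hP)).2 (le_normalizer_commutator M)
  H_normal := (normal_subgroupOf_iff_le_normalizer (fittingHallOf_le M)).2
    (le_normalizer_fittingHallOf M)
  H_nilp := isNilpotent_subgroupOf (fittingHallOf_le M) (fittingHallOf_isNilpotent M)
  U_nilp := isNilpotent_subgroupOf (U_le hP) hP.U_nilpotent
  U_ne := subgroupOf_ne_bot (U_le hP) hU
  HU_inf := subgroupOf_inf_eq_bot hP.U_compl.2.2.1
  HU_coprime := by
    rw [card_subgroupOf (fittingHallOf_le M), card_subgroupOf (U_le hP)]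
    exact coprime_kernel_U hP
  W₁_norm := fun w hw x hx => conj_mem_U hP w hw x hx
  W₁_prime := by rw [card_subgroupOf (W₁_le hP)]; exact hW₁
  W₁_inf := subgroupOf_inf_eq_bot hP.W₁_compl.2.2.1
  W₁_sup := by
    rw [← subgroupOf_sup (derived_le hP) (W₁_le hP), sup_of_isComplIn hP.W₁_compl, subgroupOf_self]
  W₁_coprime := by
    rw [card_subgroupOf (W₁_le hP), card_subgroupOf (derived_le hP)]
    exact coprime_W₁_derived hP
  W₂_ne := subgroupOf_ne_bot ((W₂_le_kernel hP).trans (fittingHallOf_le M)) hP.selfNormalizing.2.1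
  W₂_cyclic := by
    have h1 : IsCyclic ↥(W₁ ⊔ W₂) := hP.selfNormalizing.2.2.2.2.1
    have h2 : IsCyclic W₂ :=
      isCyclic_of_injective (Subgroup.inclusion (le_sup_right : W₂ ≤ W₁ ⊔ W₂))
        (Subgroup.inclusion_injective _)
    exact isCyclic_of_injective
      (subgroupOfEquivOfLe ((W₂_le_kernel hP).trans (fittingHallOf_le M))).toMonoidHom
      (subgroupOfEquivOfLe ((W₂_le_kernel hP).trans (fittingHallOf_le M))).injective
  W₂_le := fun x hx => W₂_le_kernel hP hx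
  W₂_cent := by
    intro x hx hx1
    have hx2 : (x : G) ≠ 1 := fun h => hx1 (Subtype.ext h)
    rw [← hP.W₂_centralizer x hx hx2]
    ext y
    rw [mem_inf, mem_subgroupOf, mem_subgroupOf, mem_inf, mem_centralizer_iff, mem_centralizer_iff]
    refine and_congr_right fun _ => ?_
    simp only [Set.mem_singleton_iff, forall_eq]
    constructor
    · intro h; exact congrArg Subtype.val h
    · intro h; exact Subtype.ext h
  U_der := by
    rw [subgroupOf_commutator (U_le hP) (U_le hP), centralizer_subgroupOf (fittingHallOf_le M)]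
    exact fun x hx => commutator_U_le hP hx
  not_cent := by
    rw [centralizer_subgroupOf (U_le hP)]
    intro h
    apply hU
    apply U_eq_bot_of_le_centralizer hP
    rw [le_centralizer_iff]
    intro x hx
    exact h (show (⟨x, fittingHallOf_le M hx⟩ : ↥M) ∈ (fittingHallOf M).subgroupOf M from hx)
  cent_eq := by
    rw [← subgroupOf_sup (U_le hP) (W₁_le hP), centralizer_subgroupOf (sup_le hP)]
    exact subgroupOf_inf_eq_bot hc

/-- The order of `W₁` does not depend on the type P data. -/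
theorem card_W₁_eq {W₁' U' W₂' : Subgroup G} (hP : IsTypePWith M W₁ U W₂)
    (hP' : IsTypePWith M W₁' U' W₂') : Nat.card W₁ = Nat.card W₁' := by
  rw [← relIndex_derived hP, ← relIndex_derived hP']

/-- The order of `U` does not depend on the type P data. -/
theorem card_U_eq {W₁' U' W₂' : Subgroup G} (hP : IsTypePWith M W₁ U W₂)
    (hP' : IsTypePWith M W₁' U' W₂') : Nat.card U = Nat.card U' := by
  rw [← relIndex_kernel_derived hP, ← relIndex_kernel_derived hP']

theorem U_ne_bot_of {W₁' U' W₂' : Subgroup G} (hP : IsTypePWith M W₁ U W₂)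
    (hP' : IsTypePWith M W₁' U' W₂') (hU' : U' ≠ ⊥) : U ≠ ⊥ := by
  intro h
  apply hU'
  rw [← Subgroup.card_eq_one, ← card_U_eq hP hP', h, Subgroup.card_bot]

/-- For types II, III, IV every choice of type P data has `U ≠ 1` and `|W₁|` a prime. -/
theorem U_ne_and_W₁_prime (hP : IsTypePWith M W₁ U W₂)
    (h : IsOfTypeII M ∨ IsOfTypeIII M ∨ IsOfTypeIV M) : U ≠ ⊥ ∧ (Nat.card W₁).Prime := by
  rcases h with ⟨W₁', U', W₂', hP', hU', hW', -⟩ | ⟨W₁', U', W₂', hP', hU', hW', -⟩ |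
    ⟨W₁', U', W₂', hP', hU', hW', -⟩
  all_goals
    refine ⟨U_ne_bot_of hP hP' hU', ?_⟩
    rw [card_W₁_eq hP hP']
    exact hW'

/-- `C_H(U W₁) = 1` if `M` is of type II, or of type III, IV with `|W₂|` a prime. -/
theorem cent_eq_of_types [Finite G] (hP : IsTypePWith M W₁ U W₂)
    (h : IsOfTypeII M ∨ IsOfTypeIII M ∨ IsOfTypeIV M) (hW₂ : ¬ IsOfTypeII M → (Nat.card W₂).Prime) :
    fittingHallOf M ⊓ centralizer ((U ⊔ W₁ : Subgroup G) : Set G) = ⊥ := by
  by_cases hII : IsOfTypeII M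
  · exact cent_eq_of_typeII hP hII
  · exact cent_eq_of_prime hP (U_ne_and_W₁_prime hP h).1 (hW₂ hII)

/-- Peterfalvi (9.3) for types II, III, IV; in the minimal simple group the condition on `W₂` is (8.8). -/
theorem hyp_of_types [Finite G] (hodd : Odd (Nat.card M)) (hP : IsTypePWith M W₁ U W₂)
    (h : IsOfTypeII M ∨ IsOfTypeIII M ∨ IsOfTypeIV M)
    (hW₂ : ¬ IsOfTypeII M → (Nat.card W₂).Prime) :
    Hyp ((⁅M, M⁆ : Subgroup G).subgroupOf M) ((fittingHallOf M).subgroupOf M) (U.subgroupOf M)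
      (W₁.subgroupOf M) (W₂.subgroupOf M) :=
  hyp_of_typeP hodd hP (U_ne_and_W₁_prime hP h).1 (U_ne_and_W₁_prime hP h).2
    (cent_eq_of_types hP h hW₂)

end hyp

end Cfsg.Agent.OddOrderCharacters.PF9.Three
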