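import Mathlib
import Cfsg.Agent.OddOrderCharacters.PF9.Defs
import Cfsg.Agent.OddOrderCharacters.Wielandt
import Cfsg.Agent.S1545

/-!
# Peterfalvi (9.3)-(9.6): orders

From `PF9.Defs.Hyp`: the order of a `U W₁`-invariant subgroup `N` of `H` is
`|N ∩ W₂| ^ q * |C_N(U)|`; consequences for a chief factor `H / H₀`.
-/

set_option autoImplicit false

namespace Cfsg.Agent.OddOrderCharacters.PF9.Count

open Cfsg.Agent.OddOrderCharacters.PF9.Defs Cfsg.Agent.OddOrderCharacters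

variable {L : Type*} [Group L] {K H U W₁ W₂ : Subgroup L}

theorem H_le_K (h : Hyp K H U W₁ W₂) : H ≤ K := h.K_eq ▸ le_sup_left

theorem U_le_K (h : Hyp K H U W₁ W₂) : U ≤ K := h.K_eq ▸ le_sup_right

theorem W₁_ne_bot (h : Hyp K H U W₁ W₂) : W₁ ≠ ⊥ := by
  rintro rfl
  have := h.W₁_prime
  rw [Subgroup.card_bot] at this
  exact Nat.not_prime_one this

theorem U_inf_W₁ (h : Hyp K H U W₁ W₂) : U ⊓ W₁ = ⊥ := by
  rw [eq_bot_iff, ← h.W₁_inf]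
  exact inf_le_inf_right _ (U_le_K h)

/-- `U W₁` is a Frobenius group. -/
theorem U_fpf (h : Hyp K H U W₁ W₂) : ∀ e ∈ W₁, e ≠ 1 → ∀ u ∈ U, e * u = u * e → u = 1 := by
  intro e he he1 u hu heu
  have h1 : u ∈ K ⊓ Subgroup.centralizer ({e} : Set L) := by
    refine Subgroup.mem_inf.mpr ⟨U_le_K h hu, ?_⟩
    rw [Subgroup.mem_centralizer_iff]
    intro x hx
    rw [Set.mem_singleton_iff] at hx
    rw [hx]; exact heu
  rw [h.W₂_cent e he he1] at h1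
  have h2 : u ∈ H ⊓ U := Subgroup.mem_inf.mpr ⟨h.W₂_le h1, hu⟩
  rw [h.HU_inf] at h2
  simpa using h2

theorem W₁_le_normalizer_U (h : Hyp K H U W₁ W₂) : W₁ ≤ Subgroup.normalizer (U : Set L) := by
  intro x hx
  rw [Subgroup.mem_normalizer_iff]
  intro g
  constructor
  · exact h.W₁_norm x hx g
  · intro hg
    have h2 := h.W₁_norm x⁻¹ (W₁.inv_mem hx) _ hg
    have h3 : x⁻¹ * (x * g * x⁻¹) * x⁻¹⁻¹ = g := by group
    rwa [h3] at h2

theorem H_inf_UW₁ (h : Hyp K H U W₁ W₂) : H ⊓ (U ⊔ W₁) = ⊥ := by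
  rw [eq_bot_iff]
  intro x hx
  obtain ⟨h1, h2⟩ := Subgroup.mem_inf.mp hx
  rw [sup_comm] at h2
  obtain ⟨u, hu, w, hw, rfl⟩ :=
    Cfsg.Agent.Solvable.Glauberman.exists_mul_of_mem_sup W₁ U (W₁_le_normalizer_U h) h2
  have h3 : w ∈ K ⊓ W₁ := by
    refine Subgroup.mem_inf.mpr ⟨?_, hw⟩
    have h4 : w = u⁻¹ * (u * w) := by group
    rw [h4]
    exact K.mul_mem (K.inv_mem (U_le_K h hu)) (H_le_K h h1)
  rw [h.W₁_inf, Subgroup.mem_bot] at h3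
  rw [h3, mul_one] at h1 ⊢
  rw [← h.HU_inf]
  exact Subgroup.mem_inf.mpr ⟨h1, hu⟩

theorem card_UW₁_coprime [Finite L] (h : Hyp K H U W₁ W₂) :
    (Nat.card H).Coprime (Nat.card ↥(U ⊔ W₁)) := by
  have h1 : Nat.card ↥(U ⊔ W₁) ∣ Nat.card U * Nat.card W₁ := by
    have hcard : Nat.card ↥(U ⊔ W₁) = Nat.card U * Nat.card W₁ := by
      rw [← Nat.card_prod]
      symm
      refine Nat.card_congr (Equiv.ofBijective
        (fun p : U × W₁ => (⟨p.1 * p.2, Subgroup.mul_mem _ (Subgroup.mem_sup_left p.1.2)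
          (Subgroup.mem_sup_right p.2.2)⟩ : ↥(U ⊔ W₁))) ⟨?_, ?_⟩)
      · rintro ⟨u, e⟩ ⟨v, f⟩ huv
        have h1 : (u : L) * e = v * f := congrArg Subtype.val huv
        have h2 : (v : L)⁻¹ * u = f * (e : L)⁻¹ := by
          rw [inv_mul_eq_iff_eq_mul, ← mul_assoc, ← h1, mul_inv_cancel_right]
        have h3 : (v : L)⁻¹ * u ∈ U ⊓ W₁ := Subgroup.mem_inf.mpr
          ⟨U.mul_mem (U.inv_mem v.2) u.2, by rw [h2]; exact W₁.mul_mem f.2 (W₁.inv_mem e.2)⟩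
        rw [U_inf_W₁ h, Subgroup.mem_bot] at h3
        have h4 : (u : L) = v := (inv_mul_eq_one.mp h3).symm
        rw [h4] at h1
        exact Prod.ext (Subtype.ext h4) (Subtype.ext (mul_left_cancel h1))
      · rintro ⟨g, hg⟩
        rw [sup_comm] at hg
        obtain ⟨u, hu, e, he, rfl⟩ :=
          Cfsg.Agent.Solvable.Glauberman.exists_mul_of_mem_sup W₁ U (W₁_le_normalizer_U h) hg
        exact ⟨⟨⟨u, hu⟩, ⟨e, he⟩⟩, rfl⟩
    rw [hcard]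
  refine Nat.Coprime.coprime_dvd_right h1 (Nat.Coprime.mul_right h.HU_coprime ?_)
  exact (Nat.Coprime.coprime_dvd_right (Subgroup.card_dvd_of_le (H_le_K h)) h.W₁_coprime).symm

theorem le_normalizer {A N : Subgroup L} (hN : ∀ x ∈ A, ∀ n ∈ N, x * n * x⁻¹ ∈ N) :
    A ≤ Subgroup.normalizer (N : Set L) := by
  intro x hx
  rw [Subgroup.mem_normalizer_iff]
  intro g
  constructor
  · exact hN x hx g
  · intro hg
    have h2 := hN x⁻¹ (A.inv_mem hx) _ hg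
    have h3 : x⁻¹ * (x * g * x⁻¹) * x⁻¹⁻¹ = g := by group
    rwa [h3] at h2

theorem le_normalizer_conj {A N : Subgroup L} (hN : A ≤ Subgroup.normalizer (N : Set L)) :
    ∀ x ∈ A, ∀ n ∈ N, x * n * x⁻¹ ∈ N :=
  fun _ hx _ hn => (Subgroup.mem_normalizer_iff.mp (hN hx) _).mp hn

/-- The centraliser of `W₁` in a subgroup of `K`. -/
theorem inf_centralizer_W₁ (h : Hyp K H U W₁ W₂) {N : Subgroup L} (hN : N ≤ K) :
    N ⊓ Subgroup.centralizer (W₁ : Set L) = N ⊓ W₂ := by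
  obtain ⟨w, hw, hw1⟩ := (Subgroup.bot_or_exists_ne_one W₁).resolve_left (W₁_ne_bot h)
  have hW₂ : ∀ y ∈ W₂, ∀ w ∈ W₁, w * y = y * w := by
    intro y hy w' hw'
    by_cases h1 : w' = 1
    · rw [h1, one_mul, mul_one]
    rw [← h.W₂_cent w' hw' h1] at hy
    exact Subgroup.mem_centralizer_iff.mp (Subgroup.mem_inf.mp hy).2 w' rfl
  apply le_antisymm
  · intro x hx
    obtain ⟨h1, h2⟩ := Subgroup.mem_inf.mp hx
    refine Subgroup.mem_inf.mpr ⟨h1, ?_⟩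
    rw [← h.W₂_cent w hw hw1]
    refine Subgroup.mem_inf.mpr ⟨hN h1, ?_⟩
    rw [Subgroup.mem_centralizer_iff] at h2 ⊢
    intro y hy
    rw [Set.mem_singleton_iff] at hy
    rw [hy]; exact h2 w hw
  · intro x hx
    obtain ⟨h1, h2⟩ := Subgroup.mem_inf.mp hx
    refine Subgroup.mem_inf.mpr ⟨h1, ?_⟩
    rw [Subgroup.mem_centralizer_iff]
    intro w' hw'
    exact hW₂ x h2 w' hw'

theorem isSolvable_of_le [Finite L] (h : Hyp K H U W₁ W₂) {N : Subgroup L} (hN : N ≤ H) :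
    Group.IsSolvable N := by
  have h1 : Group.IsSolvable H := by
    have := h.H_nilp
    infer_instance
  exact Group.isSolvable_of_isSolvable_injective (f := Subgroup.inclusion hN) (Subgroup.inclusion_injective hN)

/-- The order of a `U W₁`-invariant subgroup `N` of `H`: `|N| = |N ∩ W₂| ^ q * |C_N(U)|`. -/
theorem card_of_le [Finite L] (h : Hyp K H U W₁ W₂) {N : Subgroup L} (hN : N ≤ H)
    (hUN : ∀ x ∈ U, ∀ n ∈ N, x * n * x⁻¹ ∈ N) (hWN : ∀ x ∈ W₁, ∀ n ∈ N, x * n * x⁻¹ ∈ N) :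
    Nat.card N = Nat.card ↥(N ⊓ W₂) ^ Nat.card W₁ *
      Nat.card ↥(N ⊓ Subgroup.centralizer (U : Set L)) := by
  have hUWN : U ⊔ W₁ ≤ Subgroup.normalizer (N : Set L) := sup_le (le_normalizer hUN) (le_normalizer hWN)
  have hdisj : N ⊓ (U ⊔ W₁) = ⊥ := by
    rw [eq_bot_iff, ← H_inf_UW₁ h]
    exact inf_le_inf_right _ hN
  have hcop : (Nat.card N).Coprime (Nat.card ↥(U ⊔ W₁)) :=
    Nat.Coprime.coprime_dvd_left (Subgroup.card_dvd_of_le hN) (card_UW₁_coprime h)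
  have key := Cfsg.Agent.S1545.result U W₁ N h.U_ne (W₁_ne_bot h) (U_inf_W₁ h) h.W₁_norm (U_fpf h)
    (le_normalizer_conj hUWN) hdisj (isSolvable_of_le h hN) hcop
  have h1 : N ⊓ Subgroup.centralizer ((U ⊔ W₁ : Subgroup L) : Set L) = ⊥ := by
    rw [eq_bot_iff, ← h.cent_eq]
    exact inf_le_inf_right _ hN
  rw [h1, Subgroup.card_bot, one_pow, one_mul, inf_centralizer_W₁ h (hN.trans (H_le_K h))] at key
  exact key

/-- (9.3): `|H| = |W₂| ^ q * |C_H(U)|`. -/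
theorem card_H [Finite L] (h : Hyp K H U W₁ W₂) :
    Nat.card H = Nat.card W₂ ^ Nat.card W₁ * Nat.card ↥(H ⊓ Subgroup.centralizer (U : Set L)) := by
  have h1 := card_of_le h le_rfl (fun x _ n hn => h.H_normal.conj_mem n hn x)
    (fun x _ n hn => h.H_normal.conj_mem n hn x)
  rw [inf_eq_right.mpr h.W₂_le] at h1
  exact h1

theorem relIndex_mul_card' {A B : Subgroup L} (hAB : A ≤ B) : A.relIndex B * Nat.card A = Nat.card B := by
  rw [mul_comm, ← Subgroup.relIndex_bot_left A, Subgroup.relIndex_mul_relIndex ⊥ A B bot_le hAB,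
    Subgroup.relIndex_bot_left]

/-- If `N` is `U W₁`-invariant and contains `C_H(U)` then `|H : N| = |W₂ : W₂ ∩ N| ^ q`. -/
theorem relIndex_eq [Finite L] (h : Hyp K H U W₁ W₂) {N : Subgroup L} (hN : N ≤ H)
    (hUN : ∀ x ∈ U, ∀ n ∈ N, x * n * x⁻¹ ∈ N) (hWN : ∀ x ∈ W₁, ∀ n ∈ N, x * n * x⁻¹ ∈ N)
    (hC : H ⊓ Subgroup.centralizer (U : Set L) ≤ N) :
    N.relIndex H = ((W₂ ⊓ N).relIndex W₂) ^ Nat.card W₁ := by
  have h1 := card_of_le h hN hUN hWN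
  have h2 := card_H h
  have h3 := relIndex_mul_card' hN
  have h4 := relIndex_mul_card' (inf_le_left : W₂ ⊓ N ≤ W₂)
  have h5 : H ⊓ Subgroup.centralizer (U : Set L) = N ⊓ Subgroup.centralizer (U : Set L) := by
    apply le_antisymm
    · exact le_inf hC inf_le_right
    · exact inf_le_inf_right _ hN
  rw [← h3, ← h4, h1, h5, mul_pow, inf_comm W₂ N] at h2
  have hpos : 0 < Nat.card ↥(N ⊓ W₂) ^ Nat.card W₁ *
      Nat.card ↥(N ⊓ Subgroup.centralizer (U : Set L)) :=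
    Nat.mul_pos (pow_pos Nat.card_pos _) Nat.card_pos
  rw [inf_comm W₂ N]
  apply Nat.eq_of_mul_eq_mul_right hpos
  rw [h2]; ring

/-- `C_{H/N}(U) = 1` when `C_H(U) ≤ N`. -/
theorem fixed [Finite L] (h : Hyp K H U W₁ W₂) {N : Subgroup L} (hN : N ≤ H)
    (hUN : ∀ x ∈ U, ∀ n ∈ N, x * n * x⁻¹ ∈ N)
    (hC : H ⊓ Subgroup.centralizer (U : Set L) ≤ N) :
    ∀ y ∈ H, (∀ x ∈ U, x * y * x⁻¹ * y⁻¹ ∈ N) → y ∈ N := by
  intro y hy hfix
  obtain ⟨n, hn, hnc⟩ := Wielandt.exists_mem_centralizer U H N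
    (le_normalizer fun x _ n hn => h.H_normal.conj_mem n hn x) (le_normalizer hUN) hN
    h.HU_coprime.symm (isSolvable_of_le h le_rfl) hy hfix
  have h1 : n * y ∈ N := hC (Subgroup.mem_inf.mpr ⟨H.mul_mem (hN hn) hy, hnc⟩)
  have h2 : y = n⁻¹ * (n * y) := by group
  rw [h2]
  exact N.mul_mem (N.inv_mem hn) h1

/-- `C_{H/N}(w) = W₂ N / N` for `1 ≠ w ∈ W₁`. -/
theorem W₁_fixed [Finite L] (h : Hyp K H U W₁ W₂) {N : Subgroup L} (hN : N ≤ H)
    (hHN : ∀ x ∈ H, ∀ n ∈ N, x * n * x⁻¹ ∈ N) (hWN : ∀ x ∈ W₁, ∀ n ∈ N, x * n * x⁻¹ ∈ N) :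
    ∀ w ∈ W₁, w ≠ 1 → ∀ y ∈ H, w * y * w⁻¹ * y⁻¹ ∈ N → ∃ z ∈ W₂, z⁻¹ * y ∈ N := by
  intro w hw hw1 y hy hfix
  have hzw : Subgroup.zpowers w ≤ W₁ := by rwa [Subgroup.zpowers_le]
  have hgood : ∀ a ∈ Subgroup.zpowers w, a * y * a⁻¹ * y⁻¹ ∈ N := by
    let S : Subgroup L :=
      { carrier := {a | a ∈ W₁ ∧ a * y * a⁻¹ * y⁻¹ ∈ N}
        one_mem' := ⟨W₁.one_mem, by simp [N.one_mem]⟩
        mul_mem' := by
          rintro a b ⟨ha, ha'⟩ ⟨hb, hb'⟩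
          refine ⟨W₁.mul_mem ha hb, ?_⟩
          have h1 : a * b * y * (a * b)⁻¹ * y⁻¹ =
              (a * (b * y * b⁻¹ * y⁻¹) * a⁻¹) * (a * y * a⁻¹ * y⁻¹) := by group
          rw [h1]
          exact N.mul_mem (hWN a ha _ hb') ha'
        inv_mem' := by
          rintro a ⟨ha, ha'⟩
          refine ⟨W₁.inv_mem ha, ?_⟩
          have h1 : a⁻¹ * y * a⁻¹⁻¹ * y⁻¹ = a⁻¹ * (a * y * a⁻¹ * y⁻¹)⁻¹ * a⁻¹⁻¹ := by group
          rw [h1]
          exact hWN a⁻¹ (W₁.inv_mem ha) _ (N.inv_mem ha') }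
    have h1 : Subgroup.zpowers w ≤ S := by
      rw [Subgroup.zpowers_le]
      exact ⟨hw, hfix⟩
    exact fun a ha => (h1 ha).2
  have hcop : (Nat.card (Subgroup.zpowers w)).Coprime (Nat.card H) := by
    have h1 := Nat.Coprime.coprime_dvd_right (Subgroup.card_dvd_of_le (H_le_K h)) h.W₁_coprime
    exact Nat.Coprime.coprime_dvd_left (Subgroup.card_dvd_of_le hzw) h1
  obtain ⟨n, hn, hnc⟩ := Wielandt.exists_mem_centralizer (Subgroup.zpowers w) H N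
    (le_normalizer fun x _ n hn => h.H_normal.conj_mem n hn x)
    (le_normalizer fun x hx n hn => hWN x (hzw hx) n hn) hN hcop (isSolvable_of_le h le_rfl) hy hgood
  refine ⟨n * y, ?_, ?_⟩
  · rw [← h.W₂_cent w hw hw1]
    refine Subgroup.mem_inf.mpr ⟨K.mul_mem (H_le_K h (hN hn)) (H_le_K h hy), ?_⟩
    rw [Subgroup.mem_centralizer_iff] at hnc ⊢
    intro x hx
    rw [Set.mem_singleton_iff] at hx
    rw [hx]
    exact hnc w (Subgroup.mem_zpowers w)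
  · have h1 : (n * y)⁻¹ * y = y⁻¹ * n⁻¹ * y⁻¹⁻¹ := by group
    rw [h1]
    exact hHN y⁻¹ (H.inv_mem hy) _ (N.inv_mem hn)

end Cfsg.Agent.OddOrderCharacters.PF9.Count
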